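import Cfsg.Agent.Lib.LocStruct.SylowIn
import Cfsg.Agent.Lib.GL.Unitri
import Cfsg.Agent.Lib.SL2Elt.Order

/-! The two maximal parabolic subgroups of `SL₃(4)` and their unipotent radicals. -/

set_option autoImplicit false

namespace H92.L34

open Subgroup H69 Matrix
open scoped MatrixGroups

variable {F : Type*} [Field F] [Fintype F]

theorem cube (hF : Fintype.card F = 4) {x : F} (hx : x ≠ 0) : x ^ 3 = 1 := by
  have := FiniteField.pow_card_sub_one_eq_one x hx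
  rwa [hF] at this

theorem two (hF : Fintype.card F = 4) : (2 : F) = 0 := by
  have := FiniteField.cast_card_eq_zero F
  rw [hF, show (4 : ℕ) = 2 ^ 2 by norm_num, Nat.cast_pow, Nat.cast_ofNat] at this
  exact (pow_eq_zero_iff'.1 this).1

omit [Fintype F] in
theorem mem_U {g : SL(3, F)} : g ∈ H10.unitriSL (Fin 3) F ↔ g.1 1 0 = 0 ∧ g.1 2 0 = 0 ∧
    g.1 2 1 = 0 ∧ g.1 0 0 = 1 ∧ g.1 1 1 = 1 ∧ g.1 2 2 = 1 := by
  rw [H10.mem_unitriSL]
  refine ⟨fun ⟨h1, h2⟩ => ⟨h1 _ _ (by decide), h1 _ _ (by decide), h1 _ _ (by decide), h2 _, h2 _,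
    h2 _⟩, fun ⟨a, b, c, d, e, f⟩ => ⟨fun i j h => ?_, fun i => ?_⟩⟩
  · fin_cases i <;> fin_cases j <;> simp_all
  · fin_cases i <;> simp_all

omit [Fintype F] in
theorem mk_eq_iff {g h : SL(3, F)} : (g : PSL(3, F)) = h ↔ ∃ c : F, g.1 = c • h.1 := by
  rw [eq_comm, QuotientGroup.eq, Matrix.SpecialLinearGroup.mem_center_iff]
  constructor
  · rintro ⟨r, -, hr⟩
    refine ⟨r, ?_⟩
    have : g = h * (h⁻¹ * g) := by group
    rw [this, Matrix.SpecialLinearGroup.coe_mul, ← hr]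
    simp [Matrix.scalar_apply, ← smul_one_eq_diagonal]
  · rintro ⟨c, hc⟩
    have h1 : (h⁻¹ * g).1 = Matrix.scalar (Fin 3) c := by
      rw [Matrix.SpecialLinearGroup.coe_mul, hc, Matrix.mul_smul, ← Matrix.SpecialLinearGroup.coe_mul,
        inv_mul_cancel]
      simp [Matrix.scalar_apply, ← smul_one_eq_diagonal]
    refine ⟨c, ?_, h1.symm⟩
    have := (h⁻¹ * g).2
    rw [h1] at this
    simpa [Matrix.scalar_apply] using this

omit [Fintype F] in
theorem exists_ut (a b c : F) : ∃ g : SL(3, F), g.1 = !![1, a, b; 0, 1, c; 0, 0, 1] :=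
  ⟨⟨_, by simp [det_fin_three]⟩, rfl⟩

omit [Fintype F] in
theorem eq_of_mk_eq {g h : SL(3, F)} (hg : g ∈ H10.unitriSL (Fin 3) F)
    (hh : h ∈ H10.unitriSL (Fin 3) F) (e : (g : PSL(3, F)) = h) : g = h := by
  obtain ⟨c, hc⟩ := mk_eq_iff.1 e
  have := congrFun (congrFun hc 0) 0
  rw [Matrix.smul_apply, (mem_U.1 hg).2.2.2.1, (mem_U.1 hh).2.2.2.1, smul_eq_mul, mul_one] at this
  rw [← this, one_smul] at hc
  exact Subtype.ext hc

/-- The facts needed about the unipotent radical `W` of a maximal parabolic subgroup. -/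
structure Rad (W : Subgroup SL(3, F)) : Prop where
  le : W ≤ H10.unitriSL (Fin 3) F
  card : Nat.card W = 16
  cent : ∀ x ∈ H10.unitriSL (Fin 3) F, (∀ w ∈ W, x * w = w * x) → x ∈ W
  par : ∃ (P : Subgroup SL(3, F)) (ψ : P →* SL(2, F)), Function.Surjective ψ ∧
    H10.unitriSL (Fin 3) F ≤ P ∧
    (∀ g : SL(3, F), (g : PSL(3, F)) ∈ 𝐍(W.map (QuotientGroup.mk' _)) → g ∈ P) ∧
    ∀ g : P, ψ g = 1 ↔ ((g : SL(3, F)) : PSL(3, F)) ∈ W.map (QuotientGroup.mk' _)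

theorem conj_mem_of_norm {W : Subgroup SL(3, F)} (hW : ∀ w ∈ W, w * w = 1) (hF : Fintype.card F = 4)
    {g w : SL(3, F)} (hg : (g : PSL(3, F)) ∈ 𝐍(W.map (QuotientGroup.mk' _))) (hw : w ∈ W) :
    ∃ u ∈ W, g.1 * w.1 = u.1 * g.1 := by
  obtain ⟨u, hu, e⟩ := conj_mem_of_mem_normalizer hg (mem_map_of_mem (QuotientGroup.mk' _) hw)
  obtain ⟨c, hc⟩ := mk_eq_iff.1 (show (u : PSL(3, F)) = (g * w * g⁻¹ : SL(3, F)) from e)
  have h1 : (u * u).1 = (c * c) • ((g * w * g⁻¹) * (g * w * g⁻¹) : SL(3, F)).1 := by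
    rw [Matrix.SpecialLinearGroup.coe_mul, hc, Matrix.SpecialLinearGroup.coe_mul _ (g * w * g⁻¹), smul_mul_smul_comm]
  rw [hW u hu, show g * w * g⁻¹ * (g * w * g⁻¹) = g * (w * w) * g⁻¹ by group, hW w hw, mul_one,
    mul_inv_cancel] at h1
  have h2 : c * c = 1 := by simpa using (congrFun (congrFun h1 0) 0).symm
  have h3 : c = 1 := by
    have := cube hF (x := c) (by rintro rfl; simp at h2)
    rwa [pow_succ, sq, h2, one_mul] at this
  rw [h3, one_smul] at hc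
  refine ⟨u, hu, ?_⟩
  rw [hc, ← Matrix.SpecialLinearGroup.coe_mul, ← Matrix.SpecialLinearGroup.coe_mul, inv_mul_cancel_right]

theorem exists_rad_one (hF : Fintype.card F = 4) : ∃ W : Subgroup SL(3, F), Rad W ∧
    ∀ g, g ∈ W ↔ g ∈ H10.unitriSL (Fin 3) F ∧ g.1 1 2 = 0 := by
  let W : Subgroup SL(3, F) :=
    { carrier := {g | g ∈ H10.unitriSL (Fin 3) F ∧ g.1 1 2 = 0}
      one_mem' := ⟨one_mem _, by simp⟩
      mul_mem' := fun {x y} hx hy => ⟨mul_mem hx.1 hy.1, by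
        simp [mul_apply, Fin.sum_univ_three, hx.2, hy.2, mem_U.1 hx.1]⟩
      inv_mem' := fun {x} hx => ⟨inv_mem hx.1, by
        simp [adjugate_fin_three, hx.2, mem_U.1 hx.1]⟩ }
  have hW : ∀ g, g ∈ W ↔ g ∈ H10.unitriSL (Fin 3) F ∧ g.1 1 2 = 0 := fun _ => Iff.rfl
  have hE : ∀ g ∈ W, g.1 = !![1, g.1 0 1, g.1 0 2; 0, 1, 0; 0, 0, 1] := fun g hg => by
    ext i j
    fin_cases i <;> fin_cases j <;> simp [mem_U.1 hg.1, hg.2]
  have hM : ∀ (g : SL(3, F)) a b, g.1 = !![1, a, b; 0, 1, 0; 0, 0, 1] → g ∈ W := fun g a b h =>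
    ⟨mem_U.2 (by simp [h]), by simp [h]⟩
  let P : Subgroup SL(3, F) :=
    { carrier := {g | g.1 1 0 = 0 ∧ g.1 2 0 = 0}
      one_mem' := by simp
      mul_mem' := fun {x y} hx hy => by
        simp [mul_apply, Fin.sum_univ_three, hx.1, hx.2, hy.1, hy.2]
      inv_mem' := fun {x} hx => by simp [adjugate_fin_three, hx.1, hx.2] }
  have hd : ∀ g ∈ P, g.1 0 0 * (g.1 1 1 * g.1 2 2 - g.1 1 2 * g.1 2 1) = 1 := fun g hg => by
    have := g.2
    rw [det_fin_three, hg.1, hg.2] at this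
    linear_combination this
  have h3 : ∀ g ∈ P, g.1 0 0 ^ 3 = 1 := fun g hg => cube hF (left_ne_zero_of_mul_eq_one (hd g hg))
  let ψ : P →* SL(2, F) := MonoidHom.mk' (fun g => ⟨g.1.1 0 0 ^ 2 •
      !![g.1.1 1 1, g.1.1 1 2; g.1.1 2 1, g.1.1 2 2], by
        simp only [det_smul, det_fin_two_of, Fintype.card_fin]
        linear_combination g.1.1 0 0 ^ 3 * hd g g.2 + h3 g g.2⟩) fun x y => by
    apply Subtype.ext
    show _ • _ = (_ • _) * (_ • _)
    ext i j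
    fin_cases i <;> fin_cases j <;>
      simp [mul_apply, Fin.sum_univ_three, Fin.sum_univ_two, x.2.1, x.2.2, y.2.1, y.2.2] <;> ring
  have hψ : ∀ g : P, (ψ g).1 = g.1.1 0 0 ^ 2 • !![g.1.1 1 1, g.1.1 1 2; g.1.1 2 1, g.1.1 2 2] :=
    fun _ => rfl
  refine ⟨W, ⟨fun g hg => hg.1, ?_, fun x hx h => ⟨hx, ?_⟩, P, ψ, fun B => ?_,
    fun g hg => ⟨(mem_U.1 hg).1, (mem_U.1 hg).2.1⟩, fun g hg => ?_, fun g => ⟨fun h => ?_, ?_⟩⟩, hW⟩
  · have : Nat.card W = Nat.card (F × F) := Nat.card_congr (Equiv.ofBijective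
      (fun g => (g.1.1 0 1, g.1.1 0 2)) ⟨fun x y e => Subtype.ext (Subtype.ext (by
        simp only [Prod.mk.injEq] at e
        rw [hE x x.2, hE y y.2, e.1, e.2])), fun u => by
          obtain ⟨g, hg⟩ := exists_ut u.1 u.2 0
          exact ⟨⟨g, hM g _ _ hg⟩, by simp [hg]⟩⟩)
    rw [this, Nat.card_prod, Nat.card_eq_fintype_card, hF]
  · obtain ⟨g, hg⟩ := exists_ut (1 : F) 0 0
    have := congrFun (congrFun (congrArg Subtype.val (h g (hM g _ _ hg))) 0) 2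
    simpa [mul_apply, Fin.sum_univ_three, hg] using this
  · refine ⟨⟨⟨!![1, 0, 0; 0, B.1 0 0, B.1 0 1; 0, B.1 1 0, B.1 1 1], ?_⟩, by simp, by simp⟩, ?_⟩
    · have := B.2
      rw [det_fin_two] at this
      simpa [det_fin_three] using this
    · ext i j
      fin_cases i <;> fin_cases j <;> simp [hψ]
  · obtain ⟨w, hw⟩ := exists_ut (1 : F) 0 0
    obtain ⟨u, hu, e⟩ := conj_mem_of_norm (fun w hw => Subtype.ext (by
      rw [Matrix.SpecialLinearGroup.coe_mul, hE w hw]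
      ext i j
      fin_cases i <;> fin_cases j <;> simp [← two_mul, two hF])) hF hg (hM w _ _ hw)
    rw [hE u hu, hw] at e
    exact ⟨by simpa [mul_apply, Fin.sum_univ_three] using congrFun (congrFun e 1) 1,
      by simpa [mul_apply, Fin.sum_univ_three] using congrFun (congrFun e 2) 1⟩
  · obtain ⟨w, hw⟩ := exists_ut (g.1.1 0 0 ^ 2 * g.1.1 0 1) (g.1.1 0 0 ^ 2 * g.1.1 0 2) 0
    refine ⟨w, hM w _ _ hw, mk_eq_iff.2 ⟨g.1.1 0 0 ^ 2, ?_⟩⟩
    have e := hψ g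
    rw [h] at e
    have e1 := congrFun (congrFun e 0) 0
    have e2 := congrFun (congrFun e 0) 1
    have e3 := congrFun (congrFun e 1) 0
    have e4 := congrFun (congrFun e 1) 1
    simp only [Matrix.SpecialLinearGroup.coe_one, one_apply_eq, Matrix.smul_apply, of_apply, cons_val',
      cons_val_zero, cons_val_one, cons_val_fin_one, smul_eq_mul, ne_eq, zero_ne_one,
      not_false_eq_true, one_apply_ne, one_ne_zero] at e1 e2 e3 e4
    rw [hw]
    ext i j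
    fin_cases i <;> fin_cases j <;> simp [g.2.1, g.2.2, ← e1, ← e2, ← e3, ← e4, ← pow_succ, h3 g g.2]
  · rintro ⟨w, hw, e⟩
    obtain ⟨c, hc⟩ := mk_eq_iff.1 (show ((g : SL(3, F)) : PSL(3, F)) = w from e.symm)
    have := h3 g g.2
    rw [hE w hw] at hc
    rw [hc] at this
    ext i j
    rw [hψ, hc]
    fin_cases i <;> fin_cases j <;> simp <;> simpa [pow_succ] using this

theorem exists_rad_two (hF : Fintype.card F = 4) : ∃ W : Subgroup SL(3, F), Rad W ∧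
    ∀ g, g ∈ W ↔ g ∈ H10.unitriSL (Fin 3) F ∧ g.1 0 1 = 0 := by
  let W : Subgroup SL(3, F) :=
    { carrier := {g | g ∈ H10.unitriSL (Fin 3) F ∧ g.1 0 1 = 0}
      one_mem' := ⟨one_mem _, by simp⟩
      mul_mem' := fun {x y} hx hy => ⟨mul_mem hx.1 hy.1, by
        simp [mul_apply, Fin.sum_univ_three, hx.2, hy.2, mem_U.1 hy.1]⟩
      inv_mem' := fun {x} hx => ⟨inv_mem hx.1, by
        simp [adjugate_fin_three, hx.2, mem_U.1 hx.1]⟩ }
  have hW : ∀ g, g ∈ W ↔ g ∈ H10.unitriSL (Fin 3) F ∧ g.1 0 1 = 0 := fun _ => Iff.rfl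
  have hE : ∀ g ∈ W, g.1 = !![1, 0, g.1 0 2; 0, 1, g.1 1 2; 0, 0, 1] := fun g hg => by
    ext i j
    fin_cases i <;> fin_cases j <;> simp [mem_U.1 hg.1, hg.2]
  have hM : ∀ (g : SL(3, F)) a b, g.1 = !![1, 0, a; 0, 1, b; 0, 0, 1] → g ∈ W := fun g a b h =>
    ⟨mem_U.2 (by simp [h]), by simp [h]⟩
  let P : Subgroup SL(3, F) :=
    { carrier := {g | g.1 2 0 = 0 ∧ g.1 2 1 = 0}
      one_mem' := by simp
      mul_mem' := fun {x y} hx hy => by
        simp [mul_apply, Fin.sum_univ_three, hx.1, hx.2, hy.1, hy.2]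
      inv_mem' := fun {x} hx => by simp [adjugate_fin_three, hx.1, hx.2] }
  have hd : ∀ g ∈ P, g.1 2 2 * (g.1 0 0 * g.1 1 1 - g.1 0 1 * g.1 1 0) = 1 := fun g hg => by
    have := g.2
    rw [det_fin_three, hg.1, hg.2] at this
    linear_combination this
  have h3 : ∀ g ∈ P, g.1 2 2 ^ 3 = 1 := fun g hg => cube hF (left_ne_zero_of_mul_eq_one (hd g hg))
  let ψ : P →* SL(2, F) := MonoidHom.mk' (fun g => ⟨g.1.1 2 2 ^ 2 •
      !![g.1.1 0 0, g.1.1 0 1; g.1.1 1 0, g.1.1 1 1], by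
        simp only [det_smul, det_fin_two_of, Fintype.card_fin]
        linear_combination g.1.1 2 2 ^ 3 * hd g g.2 + h3 g g.2⟩) fun x y => by
    apply Subtype.ext
    show _ • _ = (_ • _) * (_ • _)
    ext i j
    fin_cases i <;> fin_cases j <;>
      simp [mul_apply, Fin.sum_univ_three, Fin.sum_univ_two, x.2.1, x.2.2, y.2.1, y.2.2] <;> ring
  have hψ : ∀ g : P, (ψ g).1 = g.1.1 2 2 ^ 2 • !![g.1.1 0 0, g.1.1 0 1; g.1.1 1 0, g.1.1 1 1] :=
    fun _ => rfl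
  refine ⟨W, ⟨fun g hg => hg.1, ?_, fun x hx h => ⟨hx, ?_⟩, P, ψ, fun B => ?_,
    fun g hg => ⟨(mem_U.1 hg).2.1, (mem_U.1 hg).2.2.1⟩, fun g hg => ?_, fun g => ⟨fun h => ?_, ?_⟩⟩, hW⟩
  · have : Nat.card W = Nat.card (F × F) := Nat.card_congr (Equiv.ofBijective
      (fun g => (g.1.1 0 2, g.1.1 1 2)) ⟨fun x y e => Subtype.ext (Subtype.ext (by
        simp only [Prod.mk.injEq] at e
        rw [hE x x.2, hE y y.2, e.1, e.2])), fun u => by
          obtain ⟨g, hg⟩ := exists_ut 0 u.1 u.2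
          exact ⟨⟨g, hM g _ _ hg⟩, by simp [hg]⟩⟩)
    rw [this, Nat.card_prod, Nat.card_eq_fintype_card, hF]
  · obtain ⟨g, hg⟩ := exists_ut (0 : F) 0 1
    have := congrFun (congrFun (congrArg Subtype.val (h g (hM g _ _ hg))) 0) 2
    simpa [mul_apply, Fin.sum_univ_three, hg] using this
  · refine ⟨⟨⟨!![B.1 0 0, B.1 0 1, 0; B.1 1 0, B.1 1 1, 0; 0, 0, 1], ?_⟩, by simp, by simp⟩, ?_⟩
    · have := B.2
      rw [det_fin_two] at this
      simpa [det_fin_three] using this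
    · ext i j
      fin_cases i <;> fin_cases j <;> simp [hψ]
  · have key : ∀ a b : F, g.1 2 0 * a + g.1 2 1 * b = 0 := by
      intro a b
      obtain ⟨w, hw⟩ := exists_ut (0 : F) a b
      obtain ⟨u, hu, e⟩ := conj_mem_of_norm (fun w hw => Subtype.ext (by
        rw [Matrix.SpecialLinearGroup.coe_mul, hE w hw]
        ext i j
        fin_cases i <;> fin_cases j <;> simp [← two_mul, two hF])) hF hg (hM w _ _ hw)
      rw [hE u hu, hw] at e
      simpa [mul_apply, Fin.sum_univ_three] using congrFun (congrFun e 2) 2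
    exact ⟨by simpa using key 1 0, by simpa using key 0 1⟩
  · obtain ⟨w, hw⟩ := exists_ut 0 (g.1.1 2 2 ^ 2 * g.1.1 0 2) (g.1.1 2 2 ^ 2 * g.1.1 1 2)
    refine ⟨w, hM w _ _ hw, mk_eq_iff.2 ⟨g.1.1 2 2 ^ 2, ?_⟩⟩
    have e := hψ g
    rw [h] at e
    have e1 := congrFun (congrFun e 0) 0
    have e2 := congrFun (congrFun e 0) 1
    have e3 := congrFun (congrFun e 1) 0
    have e4 := congrFun (congrFun e 1) 1
    simp only [Matrix.SpecialLinearGroup.coe_one, one_apply_eq, Matrix.smul_apply, of_apply, cons_val',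
      cons_val_zero, cons_val_one, cons_val_fin_one, smul_eq_mul, ne_eq, zero_ne_one,
      not_false_eq_true, one_apply_ne, one_ne_zero] at e1 e2 e3 e4
    rw [hw]
    ext i j
    fin_cases i <;> fin_cases j <;> simp [g.2.1, g.2.2, ← e1, ← e2, ← e3, ← e4, ← pow_succ, h3 g g.2]
  · rintro ⟨w, hw, e⟩
    obtain ⟨c, hc⟩ := mk_eq_iff.1 (show ((g : SL(3, F)) : PSL(3, F)) = w from e.symm)
    have := h3 g g.2
    rw [hE w hw] at hc
    rw [hc] at this
    ext i j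
    rw [hψ, hc]
    fin_cases i <;> fin_cases j <;> simp <;> simpa [pow_succ] using this

theorem exists_rads (hF : Fintype.card F = 4) : ∃ W₁ W₂ : Subgroup SL(3, F), Rad W₁ ∧ Rad W₂ ∧
    (∀ g ∈ H10.unitriSL (Fin 3) F, g * g = 1 → g ∈ W₁ ∨ g ∈ W₂) ∧
    H10.unitriSL (Fin 3) F ≤ W₁ ⊔ W₂ := by
  obtain ⟨W₁, h1, e1⟩ := exists_rad_one hF
  obtain ⟨W₂, h2, e2⟩ := exists_rad_two hF
  refine ⟨W₁, W₂, h1, h2, fun g hg h => ?_, fun g hg => ?_⟩
  · have := congrFun (congrFun (congrArg Subtype.val h) 0) 2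
    have h3 : g.1 0 2 + g.1 0 1 * g.1 1 2 + g.1 0 2 = 0 := by
      simpa [mul_apply, Fin.sum_univ_three, mem_U.1 hg] using this
    have h4 : g.1 0 1 * g.1 1 2 = 0 := by linear_combination h3 - g.1 0 2 * two hF
    rcases mul_eq_zero.1 h4 with h5 | h5
    · exact Or.inr ((e2 g).2 ⟨hg, h5⟩)
    · exact Or.inl ((e1 g).2 ⟨hg, h5⟩)
  · obtain ⟨u, hu⟩ := exists_ut (g.1 0 1) (g.1 0 2) 0
    obtain ⟨v, hv⟩ := exists_ut 0 0 (g.1 1 2)
    have : g = v * u := Subtype.ext (by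
      rw [Matrix.SpecialLinearGroup.coe_mul, hu, hv]
      ext i j
      fin_cases i <;> fin_cases j <;> simp [mem_U.1 hg])
    rw [this]
    exact mul_mem (mem_sup_right ((e2 v).2 ⟨mem_U.2 (by simp [hv]), by simp [hv]⟩))
      (mem_sup_left ((e1 u).2 ⟨mem_U.2 (by simp [hu]), by simp [hu]⟩))

end H92.L34
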