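import Cfsg.Agent.Lib.LocStruct.SylowIn
import Cfsg.Agent.Lib.Core.GrpBasic

/-! Small derived quotients of finite `p`-groups (P. Hall, A. Mann). -/

set_option autoImplicit false

namespace H92

open Subgroup H69
open scoped commutatorElement

variable {G : Type*} [Group G]

theorem itc_normal (X : Subgroup G) [hX : X.Normal] (i : ℕ) :
    ((fun Y : Subgroup G => ⁅Y, ⊤⁆)^[i] X).Normal := by
  induction i with
  | zero => exact hX
  | succ i ih => rw [Function.iterate_succ_apply']; infer_instance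

theorem commutator_lcs_le_itc (m : ℕ) : ∀ (X : Subgroup G) [X.Normal],
    ⁅X, (⊤ : Subgroup G).lowerCentralSeries m⁆ ≤ (fun Y : Subgroup G => ⁅Y, ⊤⁆)^[m + 1] X := by
  induction m with
  | zero => intro X _; exact le_rfl
  | succ m ih =>
    intro X _
    have := itc_normal X (m + 1 + 1)
    rw [Subgroup.lowerCentralSeries_succ, Subgroup.commutator_comm]
    refine three_subgroups (le_top.trans (normalizer_eq_top _).ge)
      (le_top.trans (normalizer_eq_top _).ge) (le_top.trans (normalizer_eq_top _).ge) ?_ ?_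
    · rw [Subgroup.commutator_comm ⊤ X, Function.iterate_succ_apply]
      exact ih _
    · rw [Function.iterate_succ_apply']
      exact commutator_mono (ih X) le_rfl

theorem itc_lcs (a i : ℕ) : (fun Y : Subgroup G => ⁅Y, ⊤⁆)^[i] ((⊤ : Subgroup G).lowerCentralSeries a)
    = (⊤ : Subgroup G).lowerCentralSeries (a + i) := by
  induction i with
  | zero => rfl
  | succ i ih => rw [Function.iterate_succ_apply', ih]; rfl

theorem lcs_commutator_le (a b : ℕ) : ⁅(⊤ : Subgroup G).lowerCentralSeries a,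
    (⊤ : Subgroup G).lowerCentralSeries b⁆ ≤ (⊤ : Subgroup G).lowerCentralSeries (a + b + 1) :=
  (commutator_lcs_le_itc b _).trans (itc_lcs a (b + 1)).le

theorem commutator_zpowers_le {T : Subgroup G} [T.Normal] {x y : G} (h : ⁅x, y⁆ ∈ T) :
    ⁅zpowers x, zpowers y⁆ ≤ T := by
  rw [commutator_le]
  rintro _ ⟨i, rfl⟩ _ ⟨j, rfl⟩
  rw [← QuotientGroup.eq_one_iff, ← QuotientGroup.mk'_apply, map_commutatorElement,
    commutatorElement_eq_one_iff_commute] at h ⊢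
  rw [map_zpow, map_zpow]
  exact h.zpow_zpow i j

theorem commutator_le_of_cyclic {A B : Subgroup G} [A.Normal] [B.Normal] {x : G} (hx : x ∈ A)
    (hB : B ≤ A) (h : A ≤ zpowers x ⊔ B) : ⁅A, A⁆ ≤ ⁅A, B⁆ := by
  have hn : ∀ X : Subgroup G, X ≤ 𝐍(⁅A, B⁆) := fun X => le_top.trans (normalizer_eq_top _).ge
  refine (commutator_mono h h).trans (commutator_sup_le_left (hn _) (hn _)
    (commutator_sup_le_right (hn _) (hn _) (commutator_zpowers_le (by simp)) ?_)
    (commutator_sup_le_right (hn _) (hn _) ?_ (commutator_mono hB le_rfl)))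
  · exact commutator_mono (zpowers_le.2 hx) le_rfl
  · rw [Subgroup.commutator_comm]; exact commutator_mono (zpowers_le.2 hx) le_rfl

variable [Finite G] {p : ℕ} [hp : Fact p.Prime]

theorem dvd_relIndex_of_lt (hG : IsPGroup p G) {A B : Subgroup G} (h : B < A) :
    p ∣ B.relIndex A := by
  obtain ⟨k, hk⟩ := (hG.to_subgroup A).index (B.subgroupOf A)
  change B.relIndex A = _ at hk
  rcases k with _ | k
  · exact absurd (relIndex_eq_one.1 hk) (not_le_of_gt h)
  · rw [hk]; exact dvd_pow_self _ (by omega)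

theorem exists_gen_step (hG : IsPGroup p G) {A B : Subgroup G} (h : B ≤ A) {k : ℕ}
    (hk : ¬ p ^ (k + 1) ∣ B.relIndex A) :
    ∃ x ∈ A, A ≤ zpowers x ⊔ B ∨ ¬ p ^ k ∣ (zpowers x ⊔ B).relIndex A := by
  by_cases e : A ≤ B
  · exact ⟨1, A.one_mem, Or.inl (e.trans le_sup_right)⟩
  obtain ⟨x, hx, hxB⟩ := SetLike.not_le_iff_exists.1 e
  refine ⟨x, hx, Or.inr fun hd => hk ?_⟩
  rw [← relIndex_mul_relIndex B (zpowers x ⊔ B) A le_sup_right (sup_le (zpowers_le.2 hx) h), pow_succ']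
  exact mul_dvd_mul (dvd_relIndex_of_lt hG (lt_of_le_of_ne le_sup_right fun e' =>
    hxB (e'.ge (le_sup_left (a := zpowers x) (mem_zpowers x))))) hd

theorem exists_gen_one (hG : IsPGroup p G) {A B : Subgroup G} (h : B ≤ A)
    (hk : ¬ p ^ 2 ∣ B.relIndex A) : ∃ x ∈ A, A ≤ zpowers x ⊔ B := by
  obtain ⟨x, hx, h1 | h1⟩ := exists_gen_step hG h hk
  · exact ⟨x, hx, h1⟩
  refine ⟨x, hx, ?_⟩
  by_contra hn
  exact h1 (by
    rw [pow_one]
    exact dvd_relIndex_of_lt hG (lt_of_le_of_ne (sup_le (zpowers_le.2 hx) h) fun e => hn e.ge))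

theorem exists_gen_two (hG : IsPGroup p G) {A B : Subgroup G} (h : B ≤ A)
    (hk : ¬ p ^ 3 ∣ B.relIndex A) : ∃ x ∈ A, ∃ y ∈ A, A ≤ zpowers y ⊔ (zpowers x ⊔ B) := by
  obtain ⟨x, hx, h1 | h1⟩ := exists_gen_step hG h hk
  · exact ⟨x, hx, 1, A.one_mem, h1.trans le_sup_right⟩
  obtain ⟨y, hy, h2⟩ := exists_gen_one hG (sup_le (zpowers_le.2 hx) h) h1
  exact ⟨x, hx, y, hy, h2⟩

theorem der_le_of_small (hG : IsPGroup p G) {N Z : Subgroup G} [N.Normal] (hZ : Z ≤ N)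
    (hk : ¬ p ^ 3 ∣ Z.relIndex N) (hc : ⁅Z, N⁆ ≤ ⁅⁅N, N⁆, ⊤⁆) :
    ⁅⁅N, N⁆, ⁅N, N⁆⁆ ≤ ⁅⁅N, N⁆, ⁅⁅N, N⁆, ⊤⁆⁆ := by
  obtain ⟨x, hx, y, hy, h⟩ := exists_gen_two hG hZ hk
  have hc1 : ⁅x, y⁆ ∈ ⁅N, N⁆ := commutator_mem_commutator hx hy
  have hW : ⁅⁅N, N⁆, ⊤⁆ ≤ ⁅N, N⁆ := commutator_le_left _ _
  refine commutator_le_of_cyclic hc1 hW ?_
  set T := zpowers ⁅x, y⁆ ⊔ ⁅⁅N, N⁆, ⊤⁆ with hT
  have hTn : T.Normal := by
    rw [normal_iff_top_le_normalizer]
    exact le_normalizer_of_commutator_le_left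
      ((commutator_mono (sup_le (zpowers_le.2 hc1) hW) le_rfl).trans le_sup_right)
  have hn : ∀ X : Subgroup G, X ≤ 𝐍(T) := fun X => le_top.trans (normalizer_eq_top _).ge
  have hxy : ⁅x, y⁆ ∈ T := (le_sup_left : _ ≤ T) (mem_zpowers _)
  have hZ1 : ∀ X : Subgroup G, X ≤ N → ⁅Z, X⁆ ≤ T := fun X hX =>
    (commutator_mono le_rfl hX).trans (hc.trans le_sup_right)
  have hZ2 : ∀ X : Subgroup G, X ≤ N → ⁅X, Z⁆ ≤ T := fun X hX => by
    rw [Subgroup.commutator_comm]; exact hZ1 X hX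
  have hle : zpowers y ⊔ (zpowers x ⊔ Z) ≤ N :=
    sup_le (zpowers_le.2 hy) (sup_le (zpowers_le.2 hx) hZ)
  refine (commutator_mono h h).trans (commutator_sup_le_left (hn _) (hn _) ?_
    (commutator_sup_le_left (hn _) (hn _) ?_ (hZ1 _ hle)))
  · refine commutator_sup_le_right (hn _) (hn _) (commutator_zpowers_le (by simp))
      (commutator_sup_le_right (hn _) (hn _) (commutator_zpowers_le ?_) (hZ2 _ (zpowers_le.2 hy)))
    rw [← commutatorElement_inv]; exact T.inv_mem hxy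
  · exact commutator_sup_le_right (hn _) (hn _) (commutator_zpowers_le hxy)
      (commutator_sup_le_right (hn _) (hn _) (commutator_zpowers_le (by simp))
        (hZ2 _ (zpowers_le.2 hx)))

theorem hall_mann (hG : IsPGroup p G) {N : Subgroup G} [N.Normal] {m : ℕ}
    (hN : N ≤ (⊤ : Subgroup G).lowerCentralSeries m) (hne : ⁅N, N⁆ ≠ ⊥) :
    p ^ (m + 2) ∣ (⁅N, N⁆ : Subgroup G).relIndex N ∧ (p ^ (m + 3) ∣ (⁅N, N⁆ : Subgroup G).relIndex N ∨
      ⁅⁅N, N⁆, ⁅N, N⁆⁆ ≤ ⁅⁅N, N⁆, ⁅⁅N, N⁆, ⊤⁆⁆) := by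
  set c : ℕ → Subgroup G := fun i => (fun Y : Subgroup G => ⁅Y, ⊤⁆)^[i] N with hc
  have cn : ∀ i, (c i).Normal := itc_normal N
  have cs : ∀ i, c (i + 1) = ⁅c i, ⊤⁆ := fun i => Function.iterate_succ_apply' _ _ _
  have c0 : c 0 = N := rfl
  have anti : Antitone c := antitone_nat_of_succ_le fun i => by
    rw [cs]; exact commutator_le_left _ _
  have hcom : ∀ i, ⁅c i, N⁆ ≤ c (i + m + 1) := fun i => by
    refine (commutator_mono le_rfl hN).trans ((commutator_lcs_le_itc m (c i)).trans (le_of_eq ?_))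
    simp only [hc]
    rw [← Function.iterate_add_apply]
    congr 1
    omega
  have hlt : ∀ i, c i ≠ ⊥ → c (i + 1) < c i := fun i h => by
    rw [cs]
    exact commutator_lt_of_isPGroup (hG.to_subgroup _) (hG.to_subgroup _)
      (normalizer_eq_top _).ge h
  have hdv : ∀ i k, c (i + k) ≠ ⊥ → p ^ k ∣ (c (i + k)).relIndex (c i) := by
    intro i k
    induction k with
    | zero => intro _; simp
    | succ k ih =>
      intro h
      have h1 : c (i + k) ≠ ⊥ := fun e => h (le_bot_iff.1 ((anti (by omega)).trans e.le))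
      rw [← relIndex_mul_relIndex (c (i + (k + 1))) (c (i + k)) (c i) (anti (by omega))
        (anti (by omega)), pow_succ']
      exact mul_dvd_mul (dvd_relIndex_of_lt hG (hlt _ h1)) (ih h1)
  have main : ∀ s, ⁅N, N⁆ ≤ c (s + m) → p ^ 2 ∣ (c s).relIndex N →
      p ^ (m + 2) ∣ (⁅N, N⁆ : Subgroup G).relIndex N ∧
      (p ^ (m + 3) ∣ (⁅N, N⁆ : Subgroup G).relIndex N ∨
        ⁅⁅N, N⁆, ⁅N, N⁆⁆ ≤ ⁅⁅N, N⁆, ⁅⁅N, N⁆, ⊤⁆⁆) := by
    intro s h1 h2
    have h3 : c (s + m) ≠ ⊥ := fun e => hne (le_bot_iff.1 (h1.trans e.le))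
    have h4 := hdv s m h3
    have e1 := relIndex_mul_relIndex (c (s + m)) (c s) N (anti (by omega)) (anti (Nat.zero_le s))
    have e2 := relIndex_mul_relIndex ⁅N, N⁆ (c (s + m)) N h1 (anti (Nat.zero_le _))
    refine ⟨?_, ?_⟩
    · rw [← e2, ← e1, pow_add]
      exact (mul_dvd_mul h4 h2).mul_left _
    by_cases h5 : p ^ 3 ∣ (c s).relIndex N
    · left
      rw [← e2, ← e1, pow_add]
      exact (mul_dvd_mul h4 h5).mul_left _
    by_cases h6 : ⁅N, N⁆ = c (s + m)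
    · right
      refine der_le_of_small hG (anti (Nat.zero_le s)) h5 ?_
      rw [h6, ← cs]
      exact hcom s
    · left
      rw [← e2, ← e1, show m + 3 = 1 + (m + 2) by omega, pow_add, pow_add, pow_one]
      exact mul_dvd_mul (dvd_relIndex_of_lt hG (lt_of_le_of_ne h1 h6)) (mul_dvd_mul h4 h2)
  by_cases h2 : p ^ 2 ∣ (c 1).relIndex N
  · exact main 1 ((hcom 0).trans (le_of_eq (by congr 1; omega))) h2
  obtain ⟨x, hx, h3⟩ := exists_gen_one hG (anti (Nat.zero_le 1)) h2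
  have h4 : ⁅N, N⁆ ≤ c (2 + m) := by
    refine (commutator_le_of_cyclic hx (anti (Nat.zero_le 1)) h3).trans ?_
    rw [Subgroup.commutator_comm]
    exact (hcom 1).trans (le_of_eq (by congr 1; omega))
  refine main 2 h4 (hdv 0 2 fun e => hne (le_bot_iff.1 (h4.trans ((anti (by omega)).trans e.le))))

theorem mann_aux (hG : IsPGroup p G) (j : ℕ) : derivedSeries G j ≠ ⊥ →
    derivedSeries G j ≤ (⊤ : Subgroup G).lowerCentralSeries (2 ^ j - 1) ∧
    ∃ s, p ^ s ∣ (derivedSeries G j).index ∧ (2 ^ j + 2 * j ≤ s + 1 ∨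
      (2 ^ j + 2 * j ≤ s + 2 ∧
        derivedSeries G (j + 1) ≤ (⊤ : Subgroup G).lowerCentralSeries (2 ^ (j + 1))) ∨
      (2 ^ j + 2 * j ≤ s + 3 ∧ derivedSeries G j ≤ (⊤ : Subgroup G).lowerCentralSeries (2 ^ j))) := by
  induction j with
  | zero => intro _; exact ⟨le_rfl, 0, by simp, Or.inl (by simp)⟩
  | succ j ih =>
    intro h
    have hle : derivedSeries G (j + 1) ≤ derivedSeries G j := commutator_le_left _ _
    obtain ⟨h1, s, hs, h2⟩ := ih fun e => h (le_bot_iff.1 (hle.trans e.le))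
    have hpos : 0 < 2 ^ j := by positivity
    have hpw : 2 ^ (j + 1) = 2 * 2 ^ j := by ring
    have hpw2 : 2 ^ (j + 1 + 1) = 4 * 2 ^ j := by ring
    have h3 : derivedSeries G (j + 1) ≤ (⊤ : Subgroup G).lowerCentralSeries (2 ^ (j + 1) - 1) :=
      (commutator_mono h1 h1).trans ((lcs_commutator_le _ _).trans (le_of_eq (by congr 1; omega)))
    have e := relIndex_mul_index hle
    have hd : ∀ t, p ^ t ∣ (derivedSeries G (j + 1)).relIndex (derivedSeries G j) →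
        p ^ (t + s) ∣ (derivedSeries G (j + 1)).index := fun t ht => by
      rw [← e, pow_add]; exact mul_dvd_mul ht hs
    refine ⟨h3, ?_⟩
    obtain ⟨h4, h5⟩ := hall_mann hG h1 h
    rcases h2 with h2 | ⟨h2, h6⟩ | ⟨h2, h6⟩
    · rcases h5 with h5 | h5
      · exact ⟨_, hd _ h5, Or.inl (by omega)⟩
      · refine ⟨_, hd _ h4, Or.inr (Or.inl ⟨by omega, h5.trans ?_⟩)⟩
        refine (commutator_mono h3 (commutator_mono h3 le_rfl)).trans ?_
        exact (lcs_commutator_le _ (2 ^ (j + 1) - 1 + 1)).trans (le_of_eq (by congr 1; omega))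
    · exact ⟨_, hd _ h4, Or.inr (Or.inr ⟨by omega, h6⟩)⟩
    · refine ⟨_, hd _ (hall_mann hG h6 h).1, Or.inr (Or.inr ⟨by omega, ?_⟩)⟩
      exact (commutator_mono h6 h6).trans ((lcs_commutator_le _ _).trans
        (Subgroup.lowerCentralSeries_antitone _ (by omega)))

end H92
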