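import Cfsg.Agent.Lib.LocStruct.SylowIn
import Cfsg.Agent.Lib.Core.GrpBasic
import Cfsg.Agent.Lib.Inv73.Basic

/-! Simple groups with elementary abelian Sylow `2`-subgroups of order `p + 1` in which all proper
subgroups of even order are `{2, p}`-groups: basic lemmas. -/

set_option autoImplicit false

namespace H92

open Subgroup H69

variable {G : Type*} [Group G] [Finite G] {p : ℕ}

theorem card_eq_mul_two [hp : Fact p.Prime] (hp2 : p ≠ 2) {L T R : Subgroup G}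
    (hev : ∀ r : ℕ, r.Prime → r ∣ Nat.card L → r = p ∨ r = 2) (hT : IsSylowIn 2 T L)
    (hR : IsSylowIn p R L) : Nat.card L = Nat.card T * Nat.card R := by
  obtain ⟨a, ha⟩ := IsPGroup.iff_card.1 hT.isP
  obtain ⟨b, hb⟩ := IsPGroup.iff_card.1 hR.isP
  have hcop : (Nat.card T).Coprime (Nat.card R) := by
    rw [ha, hb]
    exact Nat.Coprime.pow _ _ ((Nat.coprime_primes Nat.prime_two hp.out).2 hp2.symm)
  obtain ⟨c, hc⟩ := hcop.mul_dvd_of_dvd_of_dvd (card_dvd_of_le hT.le) (card_dvd_of_le hR.le)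
  have h1 := H1.card_mul_relIndex_of_le hT.le
  have h2 := H1.card_mul_relIndex_of_le hR.le
  have hT0 : 0 < Nat.card T := Nat.card_pos
  have hR0 : 0 < Nat.card R := Nat.card_pos
  have e1 : T.relIndex L = Nat.card R * c :=
    Nat.eq_of_mul_eq_mul_left hT0 (by rw [h1, hc]; ring)
  have e2 : R.relIndex L = Nat.card T * c :=
    Nat.eq_of_mul_eq_mul_left hR0 (by rw [h2, hc]; ring)
  by_cases c1 : c = 1
  · rw [hc, c1, mul_one]
  obtain ⟨r, hr, hrc⟩ := Nat.exists_prime_and_dvd c1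
  rcases hev r hr (hc ▸ Dvd.dvd.mul_left hrc _) with rfl | rfl
  · exact absurd (e2 ▸ Dvd.dvd.mul_left hrc _) hR.not_dvd_relIndex
  · exact absurd (e1 ▸ Dvd.dvd.mul_left hrc _) hT.not_dvd_relIndex

theorem relIndex_norm_modEq [Fact p.Prime] {T L : Subgroup G} (h : IsSylowIn p T L) :
    (𝐍(T)).relIndex L ≡ 1 [MOD p] := by
  obtain ⟨P, hP⟩ := h.exists_sylow_subgroupOf
  have := card_sylow_modEq_one p L
  rwa [P.card_eq_index_normalizer, ← P.coe_coe, hP, ← subgroupOf_normalizer_eq h.le] at this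

omit [Finite G] in
theorem isPGroup_zpowers_of_pow {g : G} {k : ℕ} (h : g ^ p ^ k = 1) : IsPGroup p (zpowers g) := by
  rw [isPGroup_iff_mem]
  rintro x ⟨i, rfl⟩
  exact ⟨k, by rw [← zpow_natCast, ← zpow_mul, mul_comm, zpow_mul, zpow_natCast, h, one_zpow]⟩

omit [Finite G] in
theorem isPGroup_zpowers_of_sq {g : G} (h : g * g = 1) : IsPGroup 2 (zpowers g) :=
  isPGroup_zpowers_of_pow (k := 1) (by rw [pow_one, sq, h])

theorem two_dvd_card_of_mem {L : Subgroup G} {t : G} (ht : t ∈ L) (h1 : t ≠ 1) (h2 : t * t = 1) :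
    2 ∣ Nat.card L := by
  have : orderOf t = 2 := orderOf_eq_prime (by rw [sq, h2]) h1
  exact this ▸ L.orderOf_dvd_natCard ht

structure MX (p : ℕ) (G : Type*) [Group G] : Prop where
  simple : IsSimpleGroup G
  hp2 : p ≠ 2
  card2 : ∀ Q : Subgroup G, IsSylowIn 2 Q ⊤ → Nat.card Q = p + 1
  sq : ∀ Q : Subgroup G, IsSylowIn 2 Q ⊤ → ∀ x ∈ Q, x * x = 1
  trans : ∀ Q : Subgroup G, IsSylowIn 2 Q ⊤ → ∀ u ∈ Q, u ≠ 1 → ∀ v ∈ Q, v ≠ 1 →
    ∃ g ∈ 𝐍(Q), (∃ k : ℕ, g ^ p ^ k = 1) ∧ g * u * g⁻¹ = v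
  ab : ∀ X : Subgroup G, IsPGroup p X → X ≤ 𝐂(X)
  ev : ∀ L : Subgroup G, L ≠ ⊤ → 2 ∣ Nat.card L → ∀ r : ℕ, r.Prime → r ∣ Nat.card L → r = p ∨ r = 2

namespace MX

variable [hp : Fact p.Prime] (h : MX p G)
include h

theorem three_le : 3 ≤ p := by
  have := hp.out.two_le
  have := h.hp2
  omega

theorem eq_one {g : G} {k : ℕ} (h1 : g ^ p ^ k = 1) {Q : Subgroup G} (hQ : IsPGroup 2 Q)
    (hg : g ∈ Q) : g = 1 := by
  obtain ⟨j, hj⟩ := isPGroup_iff_mem.1 hQ g hg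
  have hc : Nat.Coprime (p ^ k) (2 ^ j) :=
    Nat.Coprime.pow _ _ ((Nat.coprime_primes hp.out Nat.prime_two).2 h.hp2)
  rw [← orderOf_eq_one_iff]
  exact Nat.eq_one_of_dvd_coprimes hc (orderOf_dvd_of_pow_eq_one h1) (orderOf_dvd_of_pow_eq_one hj)

theorem exists_ne {Q : Subgroup G} (hQ : IsSylowIn 2 Q ⊤) (a b : G) :
    ∃ u ∈ Q, u ≠ 1 ∧ u ≠ a ∧ u ≠ b := by
  classical
  by_contra hn
  push Not at hn
  have h3 := h.three_le
  have hc := h.card2 Q hQ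
  have hsub : (Q : Set G) ⊆ ({1, a, b} : Finset G) := by
    intro u hu
    by_cases h1 : u = 1
    · simp [h1]
    by_cases h2 : u = a
    · simp [h2]
    simp [hn u hu h1 h2]
  have h4 := Set.ncard_le_ncard hsub (Finset.finite_toSet _)
  rw [Set.ncard_coe_finset] at h4
  have h5 : ({1, a, b} : Finset G).card ≤ 3 := Finset.card_le_three
  have h6 : (Q : Set G).ncard = Nat.card Q := (Nat.card_coe_set_eq _).symm
  omega

theorem comm2 {Q : Subgroup G} (hQ : IsSylowIn 2 Q ⊤) : Q ≤ 𝐂(Q) := by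
  intro x hx
  rw [mem_centralizer_iff_commute]
  intro a ha
  have h1 := h.sq Q hQ a ha
  have h2 := h.sq Q hQ x hx
  have h3 := h.sq Q hQ _ (Q.mul_mem ha hx)
  calc a * x = a * (a * x * (a * x)) * (x * (a * x)) * (a * x)⁻¹ * (a * x) * (a * x)⁻¹ * 1 := by
        rw [h3]; group
    _ = (a * a) * x * a * (x * x) := by group
    _ = x * a := by rw [h1, h2]; group

theorem norm_ne_top_p {X : Subgroup G} (hX : IsPGroup p X) (hne : X ≠ ⊥) : 𝐍(X) ≠ ⊤ := by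
  intro e
  have := h.simple
  rcases (normalizer_eq_top_iff.1 e).eq_bot_or_eq_top with e' | e'
  · exact hne e'
  obtain ⟨Q, hQ⟩ := exists_isSylowIn 2 (⊤ : Subgroup G)
  obtain ⟨u, hu, hu1, -⟩ := h.exists_ne hQ 1 1
  obtain ⟨k, hk⟩ := isPGroup_iff_mem.1 hX u (e' ▸ mem_top u)
  exact hu1 (h.eq_one hk hQ.isP hu)

theorem norm_ne_top_two {X : Subgroup G} (hX : IsPGroup 2 X) (hne : X ≠ ⊥) : 𝐍(X) ≠ ⊤ := by
  intro e
  have := h.simple
  rcases (normalizer_eq_top_iff.1 e).eq_bot_or_eq_top with e' | e'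
  · exact hne e'
  obtain ⟨Q, hQ⟩ := exists_isSylowIn 2 (⊤ : Subgroup G)
  obtain ⟨u, hu, hu1, -⟩ := h.exists_ne hQ 1 1
  obtain ⟨v, hv, hv1, hvu, -⟩ := h.exists_ne hQ u 1
  obtain ⟨g, -, ⟨k, hk⟩, e⟩ := h.trans Q hQ u hu hu1 v hv hv1
  rw [h.eq_one hk hX (e' ▸ mem_top g)] at e
  exact hvu (by rw [← e]; group)

theorem cent_ne_top_p {X : Subgroup G} (hX : IsPGroup p X) (hne : X ≠ ⊥) : 𝐂(X) ≠ ⊤ := fun e =>
  h.norm_ne_top_p hX hne (top_le_iff.1 (e.ge.trans (centralizer_le_normalizer _)))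

theorem cent1_ne_top {t : G} (h1 : t ≠ 1) (h2 : t * t = 1) : centralizer ({t} : Set G) ≠ ⊤ := by
  intro e
  rw [← centralizer_zpowers] at e
  exact h.norm_ne_top_two (isPGroup_zpowers_of_sq h2) (mt zpowers_eq_bot.1 h1)
    (top_le_iff.1 (e.ge.trans (centralizer_le_normalizer _)))

theorem two_dvd {Q L : Subgroup G} (hQ : IsSylowIn 2 Q ⊤) (hL : Q ≤ L) : 2 ∣ Nat.card L := by
  obtain ⟨u, hu, hu1, -⟩ := h.exists_ne hQ 1 1
  exact two_dvd_card_of_mem (hL hu) hu1 (h.sq Q hQ u hu)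

/-- A `p`-element normalizing both a Sylow `2`-subgroup `Q` and a Sylow `p`-subgroup normalized by
`Q` centralizes `Q`. -/
theorem cent_of_norm {Q P : Subgroup G} (hQ : IsSylowIn 2 Q ⊤) (hP : IsSylowIn p P ⊤)
    (hQP : Q ≤ 𝐍(P)) {g : G} (hg : g ∈ 𝐍(Q)) {k : ℕ} (hk : g ^ p ^ k = 1) (hgP : g ∈ 𝐍(P))
    {u : G} (hu : u ∈ Q) : g * u * g⁻¹ = u := by
  have hgP' : g ∈ P := hP.le_of_le_normalizer' (isPGroup_zpowers_of_pow hk) le_top
    (zpowers_le.2 hgP) (mem_zpowers g)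
  have h1 : g * u * g⁻¹ * u⁻¹ ∈ Q := Q.mul_mem (conj_mem_of_mem_normalizer hg hu) (Q.inv_mem hu)
  have h2 : g * u * g⁻¹ * u⁻¹ ∈ P := by
    have := P.mul_mem hgP' (conj_mem_of_mem_normalizer (hQP hu) (P.inv_mem hgP'))
    rwa [← mul_assoc, ← mul_assoc] at this
  obtain ⟨j, hj⟩ := isPGroup_iff_mem.1 hP.isP _ h2
  exact mul_inv_eq_one.1 (h.eq_one hj hQ.isP h1)

theorem not_norm_le {Q P : Subgroup G} (hQ : IsSylowIn 2 Q ⊤) (hP : IsSylowIn p P ⊤) :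
    ¬ 𝐍(Q) ≤ 𝐍(P) := by
  intro hle
  obtain ⟨u, hu, hu1, -⟩ := h.exists_ne hQ 1 1
  obtain ⟨v, hv, hv1, hvu, -⟩ := h.exists_ne hQ u 1
  obtain ⟨g, hg, ⟨k, hk⟩, e⟩ := h.trans Q hQ u hu hu1 v hv hv1
  exact hvu (e.symm.trans (h.cent_of_norm hQ hP (le_normalizer.trans hle) hg hk (hle hg) hu))

theorem le_sup {Q R L : Subgroup G} (hQ : IsSylowIn 2 Q ⊤) (hR : IsSylowIn p R L) (hL : L ≠ ⊤)
    (hQL : Q ≤ L) : L ≤ R ⊔ Q := by
  have hev := h.ev L hL (h.two_dvd hQ hQL)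
  have hle : R ⊔ Q ≤ L := sup_le hR.le hQL
  have e1 := card_eq_mul_two h.hp2 hev (hQ.mono hQL le_top) hR
  have e2 := card_eq_mul_two h.hp2 (fun r hr hd => hev r hr (hd.trans (card_dvd_of_le hle)))
    (hQ.mono le_sup_right le_top) (hR.mono le_sup_left hle)
  exact (eq_of_le_of_card_ge hle (by rw [e1, e2])).ge

/-- Two proper subgroups containing the same Sylow subgroups are equal. -/
theorem le_of_hall {Q P L L' : Subgroup G} (hQ : IsSylowIn 2 Q ⊤) (hP : IsSylowIn p P ⊤)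
    (hL : L ≠ ⊤) (hQL : Q ≤ L) (hPL : P ≤ L) (hQL' : Q ≤ L') (hPL' : P ≤ L') : L ≤ L' :=
  (h.le_sup hQ (hP.mono hPL le_top) hL hQL).trans (sup_le hPL' hQL')

theorem ns {L R : Subgroup G} (hev : ∀ r : ℕ, r.Prime → r ∣ Nat.card L → r = p ∨ r = 2)
    (hR : IsSylowIn p R L) : L ≤ 𝐍(R) ∨
      ∃ Q, IsSylowIn 2 Q ⊤ ∧ Q ≤ L ∧ Nat.card (L ⊓ 𝐍(R) : Subgroup G) = Nat.card R := by
  obtain ⟨T, hT⟩ := exists_isSylowIn 2 L
  obtain ⟨Q, hQ, hTQ⟩ := exists_isSylowIn_le hT.isP (le_top : T ≤ ⊤)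
  have e1 := card_eq_mul_two h.hp2 hev hT hR
  have hm := relIndex_norm_modEq hR
  have hRN : R ≤ L ⊓ 𝐍(R) := le_inf hR.le le_normalizer
  have e2 := H1.card_mul_relIndex_of_le (inf_le_left : L ⊓ 𝐍(R) ≤ L)
  rw [inf_relIndex_left] at e2
  have e3 := H1.card_mul_relIndex_of_le hRN
  have hR0 : 0 < Nat.card R := Nat.card_pos
  have e4 : Nat.card T = R.relIndex (L ⊓ 𝐍(R)) * (𝐍(R)).relIndex L :=
    Nat.eq_of_mul_eq_mul_left hR0 (by rw [← mul_assoc, e3, e2, e1]; ring)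
  have hTle : Nat.card T ≤ p + 1 := (card_le_of_le hTQ).trans (h.card2 Q hQ).le
  have hT0 : 0 < Nat.card T := Nat.card_pos
  have h3 := h.three_le
  generalize (𝐍(R)).relIndex L = n at *
  generalize hc : R.relIndex (L ⊓ 𝐍(R)) = c at *
  have hc0 : 0 < c := Nat.pos_of_ne_zero (by rintro rfl; simp at e4; omega)
  have hn : n ≤ Nat.card T := by rw [e4]; exact Nat.le_mul_of_pos_left _ hc0
  by_cases n1 : n = 1
  · left
    rw [n1, mul_one] at e2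
    exact (eq_of_le_of_card_ge inf_le_left e2.ge).ge.trans inf_le_right
  right
  have hn0 : n ≠ 0 := by rintro rfl; simp at e4; omega
  have hnp : n = p + 1 := by
    have h1 : p ∣ n - 1 := (Nat.modEq_iff_dvd' (by omega)).1 hm.symm
    have := Nat.le_of_dvd (by omega) h1
    omega
  have hTc : Nat.card T = p + 1 := by omega
  have c1 : c = 1 := by
    rw [hTc, hnp] at e4
    exact Nat.eq_of_mul_eq_mul_right (show 0 < p + 1 by omega) (by rw [← e4, one_mul])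
  have hTQ' : T = Q := eq_of_le_of_card_ge hTQ (by rw [hTc, h.card2 Q hQ])
  exact ⟨Q, hQ, hTQ' ▸ hT.le, by rw [← e3, c1, mul_one]⟩

theorem ns1 {L R : Subgroup G} (hL : L ≠ ⊤) (hR : IsSylowIn p R L) {u : G} (hu : u ∈ L)
    (h1 : u ≠ 1) (h2 : u * u = 1) (hn : u ∈ 𝐍(R)) : L ≤ 𝐍(R) := by
  rcases h.ns (h.ev L hL (two_dvd_card_of_mem hu h1 h2)) hR with h3 | ⟨Q, -, -, h3⟩
  · exact h3
  have hRN : R ≤ L ⊓ 𝐍(R) := le_inf hR.le le_normalizer
  have e : R = L ⊓ 𝐍(R) := eq_of_le_of_card_ge hRN h3.le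
  have huR : u ∈ R := e.ge ⟨hu, hn⟩
  obtain ⟨k, hk⟩ := isPGroup_iff_mem.1 hR.isP u huR
  exact absurd (h.eq_one hk (isPGroup_zpowers_of_sq h2) (mem_zpowers u)) h1

/-- The centralizer of an involution has a normal Sylow `p`-subgroup. -/
theorem cent_le_norm {t : G} (h1 : t ≠ 1) (h2 : t * t = 1) {R : Subgroup G}
    (hR : IsSylowIn p R (centralizer ({t} : Set G))) : centralizer ({t} : Set G) ≤ 𝐍(R) := by
  refine h.ns1 (h.cent1_ne_top h1 h2) hR (mem_centralizer_singleton_iff.2 rfl) h1 h2 ?_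
  refine centralizer_le_normalizer _ (mem_centralizer_iff_commute.2 fun a ha => ?_)
  exact mem_centralizer_singleton_iff.1 (hR.le ha)

theorem mem_of_cent {t : G} (h1 : t ≠ 1) (h2 : t * t = 1) {R : Subgroup G}
    (hR : IsSylowIn p R (centralizer ({t} : Set G))) {x : G} {k : ℕ} (hx : x ^ p ^ k = 1)
    (hc : x * t = t * x) : x ∈ R :=
  hR.le_of_le_normalizer' (isPGroup_zpowers_of_pow hx)
    (zpowers_le.2 (mem_centralizer_singleton_iff.2 hc))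
    (zpowers_le.2 (h.cent_le_norm h1 h2 hR (mem_centralizer_singleton_iff.2 hc))) (mem_zpowers x)

theorem lemX {Q P X : Subgroup G} (hQ : IsSylowIn 2 Q ⊤) (hP : IsSylowIn p P ⊤) (hX : X ≤ P)
    (hne : X ≠ ⊥) (hQX : Q ≤ 𝐍(X)) (hn : ¬ Q ≤ 𝐂(X)) : Q ≤ 𝐍(P) := by
  have hXp : IsPGroup p X := hP.isP.to_le hX
  have hM := h.norm_ne_top_p hXp hne
  have hPK : P ≤ 𝐂(X) := (h.ab P hP.isP).trans (centralizer_anti hX)
  have hKM : 𝐂(X) ≤ 𝐍(X) := centralizer_le_normalizer _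
  have hev := h.ev _ hM (h.two_dvd hQ hQX)
  have hPK' : IsSylowIn p P 𝐂(X) := hP.mono hPK le_top
  rcases h.ns (fun r hr hd => hev r hr (hd.trans (card_dvd_of_le hKM))) hPK' with h3 | ⟨Q', hQ', h3, -⟩
  · intro g hg
    have h4 : IsSylowIn p (P ^ᶜ g) 𝐂(X) :=
      hPK'.cj_of_mem_normalizer (normalizer_le_normalizer_centralizer X (hQX hg))
    exact mem_normalizer_of_cj_le (hPK'.le_of_le_normalizer' h4.isP h4.le (h4.le.trans h3))
  · exact absurd (hQX.trans (h.le_of_hall hQ' hP hM (h3.trans hKM) (hPK.trans hKM) h3 hPK)) hn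

end MX

end H92
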