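import Cfsg.Agent.Lib.Misc92.Mixed1

/-! The cases where involutions commuting with an involution of `Q` lie in `Q`. -/

set_option autoImplicit false

namespace H92

open Subgroup H69

variable {G : Type*} [Group G] [Finite G] {p : ℕ}

omit [Finite G] in
theorem mem_norm_zpowers_of_inv {t w : G} (h : t * w * t⁻¹ = w⁻¹) : t ∈ 𝐍(zpowers w) := by
  rw [← cj_eq_self_iff, cj_zpowers, h, zpowers_inv]

omit [Finite G] in
theorem conj_pow_eq_one {x : G} {n : ℕ} (h : x ^ n = 1) (g : G) : (g * x * g⁻¹) ^ n = 1 := by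
  rw [conj_pow, h]; group

theorem dvd_card_of_fpf [Fact p.Prime] (S : Set G) {g : G} {k : ℕ} (hk : g ^ p ^ k = 1)
    (hS : ∀ s ∈ S, g * s * g⁻¹ ∈ S) (hf : ∀ s ∈ S, g * s * g⁻¹ ≠ s) : p ∣ Nat.card S := by
  classical
  have := Fintype.ofFinite S
  let f : Function.End S := fun s => ⟨g * s * g⁻¹, hS s s.2⟩
  have h1 : ∀ (n : ℕ) (s : S), ((f ^ n) s : G) = g ^ n * s * (g ^ n)⁻¹ := by
    intro n
    induction n with
    | zero => intro s; simp [Function.End.one_def]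
    | succ n ih =>
      intro s
      rw [pow_succ']
      change g * ((f ^ n) s : G) * g⁻¹ = _
      rw [ih, pow_succ']; group
  have h2 : f ^ p ^ k = 1 := by
    funext s
    apply Subtype.ext
    rw [h1, hk]; simp [Function.End.one_def]
  have h3 := Equiv.Perm.card_fixedPoints_modEq h2
  have h4 : Fintype.card (Function.fixedPoints f) = 0 := by
    rw [Fintype.card_eq_zero_iff]
    exact ⟨fun x => hf x.1 x.1.2 (congrArg Subtype.val x.2)⟩
  rw [h4] at h3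
  rw [Nat.card_eq_fintype_card]
  exact (Nat.modEq_zero_iff_dvd).1 h3

namespace MX

variable [hp : Fact p.Prime] (h : MX p G)
include h

theorem eq_one_of_inv {w : G} {k : ℕ} (hk : w ^ p ^ k = 1) (e : w⁻¹ = w) : w = 1 :=
  h.eq_one hk (isPGroup_zpowers_of_sq (by nth_rewrite 1 [← e]; group)) (mem_zpowers w)

theorem odd_orderOf {w : G} {k : ℕ} (hk : w ^ p ^ k = 1) : Odd (orderOf w) :=
  ((hp.out.odd_of_ne_two h.hp2).pow (n := k)).of_dvd_nat (orderOf_dvd_of_pow_eq_one hk)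

theorem cent_eq {w t : G} {P : Subgroup G} (hP : IsSylowIn p P ⊤) (hw : w ∈ P) (hw1 : w ≠ 1)
    (t1 : t ≠ 1) (t2 : t * t = 1) (e : t * w * t⁻¹ = w⁻¹)
    (hz : ∀ z : G, z * z = 1 → z * w = w * z → z = 1) : centralizer ({w} : Set G) = P := by
  have hwp : IsPGroup p (zpowers w) := hP.isP.to_le (zpowers_le.2 hw)
  have hN := h.norm_ne_top_p hwp (mt zpowers_eq_bot.1 hw1)
  have hev := h.ev _ hN (two_dvd_card_of_mem (mem_norm_zpowers_of_inv e) t1 t2)
  have hCN : centralizer ({w} : Set G) ≤ 𝐍(zpowers w) :=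
    (centralizer_zpowers w).ge.trans (centralizer_le_normalizer _)
  have hPC : P ≤ centralizer ({w} : Set G) :=
    (h.ab P hP.isP).trans ((centralizer_anti (zpowers_le.2 hw)).trans (centralizer_zpowers w).le)
  obtain ⟨T, hT⟩ := exists_isSylowIn 2 (centralizer ({w} : Set G))
  have e1 := card_eq_mul_two h.hp2 (fun r hr hd => hev r hr (hd.trans (card_dvd_of_le hCN))) hT
    (hP.mono hPC le_top)
  have hT1 : T = ⊥ := by
    by_contra hne
    obtain ⟨z, hzT, hz2⟩ := exists_orderOf_eq_prime hT.isP hne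
    exact H9.ne_one_of_orderOf_two hz2 (hz z (H9.mul_self_of_orderOf_two hz2)
      (mem_centralizer_singleton_iff.1 (hT.le hzT)))
  rw [hT1, card_bot, one_mul] at e1
  exact (eq_of_le_of_card_ge hPC e1.le).symm

theorem lemW {Q : Subgroup G} {s t : G} (ht : t ∈ Q) (t1 : t ≠ 1) (t2 : t * t = 1)
    (s2 : s * s = 1) (hs : s ∉ Q)
    (hA : ∀ u ∈ Q, u ≠ 1 → ∀ z : G, z * z = 1 → z * u = u * z → z ∈ Q)
    (hB : ∀ w : G, w ≠ 1 → w ^ p ^ 1 = 1 → t * w * t⁻¹ = w⁻¹ →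
      ∀ z : G, z * z = 1 → z * w = w * z → z = 1) :
    ∃ P, IsSylowIn p P ⊤ ∧ s * t ∈ P ∧ t ∈ 𝐍(P) := by
  have hodd : Odd (orderOf (s * t)) := by
    rw [← Nat.not_even_iff_odd]
    intro he
    have h1 := H9.orderOf_pow_half he
    obtain ⟨h2, h3⟩ := H9.pow_half_commute s2 t2 he
    have h4 := hA t ht t1 _ (H9.mul_self_of_orderOf_two h1) h3
    exact hs (hA _ h4 (H9.ne_one_of_orderOf_two h1) s s2 h2.symm)
  have hne : orderOf (s * t) ≠ 1 := by
    rw [Ne, orderOf_eq_one_iff, mul_eq_one_iff_eq_inv]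
    rintro rfl
    exact hs (Q.inv_mem ht)
  obtain ⟨r, hr, hrd⟩ := Nat.exists_prime_and_dvd hne
  obtain ⟨w, ⟨i, rfl⟩, hw⟩ := H1.exists_mem_orderOf_eq_prime (H := zpowers (s * t)) hr
    (by rwa [Nat.card_zpowers])
  have hinv := H9.conj_zpow_of_inverts (H9.right_inverts s2 t2) i
  simp only at hw
  set w := (s * t) ^ i with hwdef
  have hw1 : w ≠ 1 := by rintro e; rw [e, orderOf_one] at hw; exact hr.one_lt.ne hw
  have hr2 : r ≠ 2 := by rintro rfl; exact (Nat.not_even_iff_odd.2 hodd) (even_iff_two_dvd.2 hrd)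
  have hN : 𝐍(zpowers w) ≠ ⊤ := by
    intro e
    have := h.simple
    rcases (normalizer_eq_top_iff.1 e).eq_bot_or_eq_top with e' | e'
    · exact hw1 (zpowers_eq_bot.1 e')
    have h1 : 2 ∣ Nat.card (zpowers w) := two_dvd_card_of_mem (e' ▸ mem_top t) t1 t2
    rw [Nat.card_zpowers, hw] at h1
    exact hr2 ((Nat.prime_dvd_prime_iff_eq Nat.prime_two hr).1 h1).symm
  have hrp : r = p := by
    refine (h.ev _ hN (two_dvd_card_of_mem (mem_norm_zpowers_of_inv hinv) t1 t2) r hr ?_).resolve_right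
      hr2
    exact hw ▸ orderOf_dvd_natCard _ (le_normalizer (mem_zpowers w))
  have hwp : w ^ p ^ 1 = 1 := by rw [pow_one, ← hrp, ← hw, pow_orderOf_eq_one]
  obtain ⟨P, hP, hwP⟩ := exists_isSylowIn_le (isPGroup_zpowers_of_pow hwp) (le_top : zpowers w ≤ ⊤)
  have hC := h.cent_eq hP (hwP (mem_zpowers w)) hw1 t1 t2 hinv (hB w hw1 hwp hinv)
  refine ⟨P, hP, hC.le (mem_centralizer_singleton_iff.2 (Commute.self_zpow _ i)), ?_⟩
  rw [← hC, ← centralizer_zpowers]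
  exact normalizer_le_normalizer_centralizer _ (mem_norm_zpowers_of_inv hinv)

theorem exists_not_mem {Q : Subgroup G} (hQ : IsSylowIn 2 Q ⊤) : ∃ s : G, s * s = 1 ∧ s ∉ Q := by
  by_contra hn
  push Not at hn
  obtain ⟨u, hu, hu1, -⟩ := h.exists_ne hQ 1 1
  refine h.norm_ne_top_two hQ.isP (fun e => hu1 (by rwa [e] at hu)) (top_le_iff.1 fun g _ => ?_)
  refine mem_normalizer_of_cj_le fun x hx => hn x ?_
  exact h.sq _ (hQ.cj_of_mem (mem_top g)) x hx

theorem cent1_ne_top_p {x : G} {k : ℕ} (hx1 : x ≠ 1) (hx : x ^ p ^ k = 1) :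
    centralizer ({x} : Set G) ≠ ⊤ := by
  rw [← centralizer_zpowers]
  exact h.cent_ne_top_p (isPGroup_zpowers_of_pow hx) (mt zpowers_eq_bot.1 hx1)

theorem le_cent1 {P : Subgroup G} (hP : IsPGroup p P) {x : G} (hx : x ∈ P) :
    P ≤ centralizer ({x} : Set G) :=
  (h.ab P hP).trans ((centralizer_anti (zpowers_le.2 hx)).trans (centralizer_zpowers x).le)

section B

variable {Q : Subgroup G} (hQ : IsSylowIn 2 Q ⊤) {x : G} {k : ℕ} (hx1 : x ≠ 1)
  (hx : x ^ p ^ k = 1) (hc : x ∈ 𝐂(Q))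
include hQ hx1 hx hc

theorem b_norm : 𝐍(Q) ≤ centralizer ({x} : Set G) := by
  obtain ⟨t, ht, t1, -⟩ := h.exists_ne hQ 1 1
  have t2 := h.sq Q hQ t ht
  obtain ⟨R, hR⟩ := exists_isSylowIn p (centralizer ({t} : Set G))
  obtain ⟨P, hP, hRP⟩ := exists_isSylowIn_le hR.isP (le_top : R ≤ ⊤)
  have hxY : x ∈ R ⊓ 𝐂(Q) :=
    ⟨h.mem_of_cent t1 t2 hR hx (mem_centralizer_iff_commute.1 hc t ht).symm, hc⟩
  have hY : IsPGroup p (R ⊓ 𝐂(Q) : Subgroup G) := hR.isP.to_le inf_le_left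
  have hNY : 𝐍(Q) ≤ 𝐍(R ⊓ 𝐂(Q)) := by
    refine le_normalizer_of_cj_le fun g hg y hy => ?_
    obtain ⟨a, ha, rfl⟩ := mem_cj'.1 hy
    have h1 : g * a * g⁻¹ ∈ 𝐂(Q) :=
      conj_mem_of_mem_normalizer (normalizer_le_normalizer_centralizer Q hg) ha.2
    obtain ⟨j, hj⟩ := isPGroup_iff_mem.1 hY a ha
    exact ⟨h.mem_of_cent t1 t2 hR (conj_pow_eq_one hj g)
      (mem_centralizer_iff_commute.1 h1 t ht).symm, h1⟩
  have hPC : P ≤ 𝐂(R ⊓ 𝐂(Q)) := (h.ab P hP.isP).trans (centralizer_anti (inf_le_left.trans hRP))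
  have hQC : Q ≤ 𝐂(R ⊓ 𝐂(Q)) := le_centralizer_iff.1 inf_le_right
  refine hNY.trans ((h.le_of_hall hQ hP (h.norm_ne_top_p hY fun e => hx1 (by rwa [e] at hxY))
    (hQC.trans (centralizer_le_normalizer _)) (hPC.trans (centralizer_le_normalizer _)) hQC
    hPC).trans ?_)
  exact (centralizer_anti (zpowers_le.2 hxY)).trans (centralizer_zpowers x).le

theorem b_nc : 𝐍(zpowers x) ≤ centralizer ({x} : Set G) := by
  have hX := isPGroup_zpowers_of_pow hx
  obtain ⟨P, hP, hXP⟩ := exists_isSylowIn_le hX (le_top : zpowers x ≤ ⊤)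
  have hPC := h.le_cent1 hP.isP (hXP (mem_zpowers x))
  have hQC : Q ≤ centralizer ({x} : Set G) :=
    (le_centralizer_iff.1 (zpowers_le.2 hc)).trans (centralizer_zpowers x).le
  have hCN : centralizer ({x} : Set G) ≤ 𝐍(zpowers x) :=
    (centralizer_zpowers x).ge.trans (centralizer_le_normalizer _)
  exact h.le_of_hall hQ hP (h.norm_ne_top_p hX (mt zpowers_eq_bot.1 hx1)) (hQC.trans hCN)
    (hPC.trans hCN) hQC hPC

theorem b_cent {t : G} (ht : t ∈ Q) (t1 : t ≠ 1) : centralizer ({t} : Set G) ≤ 𝐂(Q) := by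
  have t2 := h.sq Q hQ t ht
  obtain ⟨R, hR⟩ := exists_isSylowIn p (centralizer ({t} : Set G))
  obtain ⟨P, hP, hRP⟩ := exists_isSylowIn_le hR.isP (le_top : R ≤ ⊤)
  have hxR : x ∈ R := h.mem_of_cent t1 t2 hR hx (mem_centralizer_iff_commute.1 hc t ht).symm
  have hQt : Q ≤ centralizer ({t} : Set G) :=
    (h.comm2 hQ).trans ((centralizer_anti (zpowers_le.2 ht)).trans (centralizer_zpowers t).le)
  have hQR : Q ≤ 𝐂(R) := by
    by_contra hn
    have h1 := h.lemX hQ hP hRP (fun e => hx1 (by rwa [e] at hxR))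
      (hQt.trans (h.cent_le_norm t1 t2 hR)) hn
    have h2 := h.b_norm hQ hx1 hx hc
    exact h.not_norm_le hQ hP (h2.trans (h.le_of_hall hQ hP (h.cent1_ne_top_p hx1 hx)
      (le_normalizer.trans h2) (h.le_cent1 hP.isP (hRP hxR)) h1 le_normalizer))
  exact (h.le_sup hQ hR (h.cent1_ne_top t1 t2) hQt).trans
    (sup_le (le_centralizer_iff.1 hQR) (h.comm2 hQ))

theorem caseB : False := by
  have all : ∀ Q', IsSylowIn 2 Q' ⊤ → ∃ y : G, y ≠ 1 ∧ y ^ p ^ k = 1 ∧ y ∈ 𝐂(Q') := by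
    intro Q' hQ'
    obtain ⟨g, -, rfl⟩ := hQ.conj hQ'
    refine ⟨g * x * g⁻¹, fun e => hx1 (by simpa using e), conj_pow_eq_one hx g, ?_⟩
    rw [← cj_centralizer]
    exact cj_mem g hc
  have key : ∀ (w : G) (j : ℕ), w ^ p ^ j = 1 → ∀ z : G, z * z = 1 → z ≠ 1 → z * w = w * z →
      ∀ t : G, t * w * t⁻¹ = w⁻¹ → w = 1 := by
    intro w j hw z z2 z1 hzw t e
    by_contra hw1
    obtain ⟨Q', hQ', hz⟩ := exists_isSylowIn_le (isPGroup_zpowers_of_sq z2) (le_top : zpowers z ≤ ⊤)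
    obtain ⟨y, y1, hy, hyc⟩ := all Q' hQ'
    have h1 : w ∈ 𝐂(Q') := h.b_cent hQ' y1 hy hyc (hz (mem_zpowers z)) z1
      (mem_centralizer_singleton_iff.2 hzw.symm)
    have h2 := mem_centralizer_singleton_iff.1 (h.b_nc hQ' hw1 hw h1 (mem_norm_zpowers_of_inv e))
    exact hw1 (h.eq_one_of_inv hw (by rw [← e, h2]; group))
  obtain ⟨t, ht, t1, -⟩ := h.exists_ne hQ 1 1
  have t2 := h.sq Q hQ t ht
  obtain ⟨s, s2, hs⟩ := h.exists_not_mem hQ
  obtain ⟨P, hP, -, htP⟩ := h.lemW ht t1 t2 s2 hs (fun u hu u1 z z2 hz =>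
    hQ.le_of_le_normalizer' (isPGroup_zpowers_of_sq z2) le_top (zpowers_le.2
      (centralizer_le_normalizer _ (h.b_cent hQ hx1 hx hc hu u1
        (mem_centralizer_singleton_iff.2 hz)))) (mem_zpowers z))
    (fun w w1 hw e z z2 hz => by
      by_contra z1
      exact w1 (key w 1 hw z z2 z1 hz t e))
  have hinv := H73.inverts_of_fpf (N := P) t2 (fun n hn => conj_mem_of_mem_normalizer htP hn)
    (fun y hy hyt => by
      by_contra y1
      obtain ⟨j, hj⟩ := isPGroup_iff_mem.1 hP.isP y hy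
      have h1 : y ∈ 𝐂(Q) := h.b_cent hQ hx1 hx hc ht t1 (mem_centralizer_singleton_iff.2 hyt)
      have h2 := h.ns1 (h.cent1_ne_top_p y1 hj) (hP.mono (h.le_cent1 hP.isP hy) le_top)
        (mem_centralizer_singleton_iff.2 hyt.symm) t1 t2 htP
      exact h.not_norm_le hQ hP ((h.b_norm hQ y1 hj h1).trans h2))
  obtain ⟨g, -, hg⟩ := hP.exists_cj_le (isPGroup_zpowers_of_pow hx) le_top
  have h1 : g * x * g⁻¹ ∈ P := hg (cj_mem g (mem_zpowers x))
  have h2 := key _ k (conj_pow_eq_one hx g) (g * t * g⁻¹) (H73.conj_mul_self t2 g)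
    (fun e => t1 (by simpa using e)) (by
      have := mem_centralizer_iff_commute.1 hc t ht
      calc g * t * g⁻¹ * (g * x * g⁻¹) = g * (t * x) * g⁻¹ := by group
        _ = _ := by rw [this]; group) t (hinv _ h1)
  exact hx1 (by simpa using h2)

end B

theorem caseA (hA : ∀ (x : G) (k : ℕ), x ^ p ^ k = 1 → ∀ z : G, z * z = 1 → z ≠ 1 →
    z * x = x * z → x = 1) : False := by
  classical
  have := Fintype.ofFinite G
  obtain ⟨Q, hQ⟩ := exists_isSylowIn 2 (⊤ : Subgroup G)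
  have hC : ∀ t ∈ Q, t ≠ 1 → centralizer ({t} : Set G) ≤ Q := by
    intro t ht t1
    have t2 := h.sq Q hQ t ht
    obtain ⟨R, hR⟩ := exists_isSylowIn p (centralizer ({t} : Set G))
    refine (h.le_sup hQ hR (h.cent1_ne_top t1 t2) ((h.comm2 hQ).trans
      ((centralizer_anti (zpowers_le.2 ht)).trans (centralizer_zpowers t).le))).trans
      (sup_le (fun x hx => ?_) le_rfl)
    obtain ⟨j, hj⟩ := isPGroup_iff_mem.1 hR.isP x hx
    rw [hA x j hj t t2 t1 (mem_centralizer_singleton_iff.1 (hR.le hx)).symm]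
    exact Q.one_mem
  obtain ⟨t, ht, t1, -⟩ := h.exists_ne hQ 1 1
  have t2 := h.sq Q hQ t ht
  have tinv : t⁻¹ = t := inv_eq_of_mul_eq_one_right t2
  have W : ∀ s : G, s * s = 1 → s ∉ Q → ∃ P, IsSylowIn p P ⊤ ∧ s * t ∈ P ∧ t ∈ 𝐍(P) :=
    fun s s2 hs => h.lemW ht t1 t2 s2 hs
      (fun u hu u1 z _ hz => hC u hu u1 (mem_centralizer_singleton_iff.2 hz))
      (fun w w1 hw _ z z2 hz => by
        by_contra z1
        exact w1 (hA w 1 hw z z2 z1 hz))
  obtain ⟨s0, s02, hs0⟩ := h.exists_not_mem hQ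
  obtain ⟨P, hP, hsP, htP⟩ := W s0 s02 hs0
  have hne : ∀ s : G, s ∉ Q → s * t ≠ 1 := fun s hs e =>
    hs (by rw [mul_eq_one_iff_eq_inv.1 e]; exact Q.inv_mem ht)
  have hinv : ∀ u : G, u * u = 1 → u ≠ 1 → u ∈ 𝐍(P) → ∀ w ∈ P, u * w * u⁻¹ = w⁻¹ :=
    fun u u2 u1 hu => H73.inverts_of_fpf (N := P) u2 (fun n hn => conj_mem_of_mem_normalizer hu hn)
      (fun y hy hyt => by
        obtain ⟨j, hj⟩ := isPGroup_iff_mem.1 hP.isP y hy
        exact hA y j hj u u2 u1 hyt.symm)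
  have hCP : ∀ w ∈ P, w ≠ 1 → centralizer ({w} : Set G) = P := fun w hw w1 =>
    h.cent_eq hP hw w1 t1 t2 (hinv t t2 t1 htP w hw) fun z z2 hz => by
      by_contra z1
      obtain ⟨j, hj⟩ := isPGroup_iff_mem.1 hP.isP w hw
      exact w1 (hA w j hj z z2 z1 hz)
  let S : Finset G := Finset.univ.filter fun s => s * s = 1 ∧ s ∉ Q
  have hpS : p ∣ S.card := by
    obtain ⟨v, hv, hv1, hvt, -⟩ := h.exists_ne hQ t 1
    obtain ⟨g, hg, ⟨k, hk⟩, e⟩ := h.trans Q hQ t ht t1 v hv hv1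
    have g1 : g ≠ 1 := by rintro rfl; exact hvt (by rw [← e]; group)
    have := dvd_card_of_fpf (p := p) (S : Set G) hk (fun s hs => by
      simp only [S, Finset.coe_filter, Finset.mem_univ, true_and, Set.mem_setOf_eq] at hs ⊢
      refine ⟨H73.conj_mul_self hs.1 g, fun e => hs.2 ?_⟩
      have := conj_mem_of_mem_normalizer' hg e
      simpa [mul_assoc] using this) (fun s hs e => by
      simp only [S, Finset.coe_filter, Finset.mem_univ, true_and, Set.mem_setOf_eq] at hs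
      exact g1 (hA g k hk s hs.1 (fun e => hs.2 (e ▸ Q.one_mem))
        (H73.commute_of_conj_eq e).symm))
    simpa using this
  let A : Finset (G × G) := (Finset.univ.filter (· ∈ Q)) ×ˢ ((Finset.univ.filter (· ∈ P)).erase 1)
  have memA : ∀ a : G × G, a ∈ A ↔ a.1 ∈ Q ∧ a.2 ≠ 1 ∧ a.2 ∈ P := by
    intro a; simp [A]
  let f : G × G → G := fun a => a.1 * a.2 * a.1⁻¹ * t
  have hmaps : ∀ a ∈ A, f a ∈ S := by
    rintro ⟨c, w⟩ ha
    obtain ⟨hc, w1, hw⟩ := (memA _).1 ha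
    simp only at hc w1 hw
    have hct : t * c = c * t := mem_centralizer_iff_commute.1 (h.comm2 hQ hc) t ht
    simp only [S, f, Finset.mem_filter, Finset.mem_univ, true_and]
    constructor
    · calc c * w * c⁻¹ * t * (c * w * c⁻¹ * t)
          = c * w * c⁻¹ * (t * c) * w * (t * c)⁻¹ * (t * t) := by group
        _ = c * w * (t * w * t⁻¹) * c⁻¹ := by rw [hct, t2]; group
        _ = 1 := by rw [hinv t t2 t1 htP w hw]; group
    · intro e
      have h1 : w ∈ Q := by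
        have := Q.mul_mem (Q.mul_mem (Q.inv_mem hc) (Q.mul_mem e (Q.inv_mem ht))) hc
        simpa [mul_assoc] using this
      obtain ⟨j, hj⟩ := isPGroup_iff_mem.1 hP.isP w hw
      exact w1 (h.eq_one hj hQ.isP h1)
  have hsurj : ∀ s ∈ S, ∃ a ∈ A, f a = s := by
    intro s hs
    simp only [S, Finset.mem_filter, Finset.mem_univ, true_and] at hs
    obtain ⟨P', hP', hsP', htP'⟩ := W s hs.1 hs.2
    obtain ⟨g, -, rfl⟩ := hP.conj hP'
    have h1 : g⁻¹ * t * g ∈ 𝐍(P) := by rwa [← cj_normalizer, mem_cj] at htP'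
    have h2 : g⁻¹ * t * g * (g⁻¹ * t * g) = 1 := by
      simpa using H73.conj_mul_self t2 g⁻¹
    have h3 : g⁻¹ * t * g ≠ 1 := fun e => t1 (by
      calc t = g * (g⁻¹ * t * g) * g⁻¹ := by group
        _ = 1 := by rw [e]; group)
    have h4 : t * (g⁻¹ * t * g) ∈ P := by
      rw [← hCP _ hsP (hne _ hs0), H73.mem_centralizer_singleton_iff_conj]
      calc _ = t * (g⁻¹ * t * g * (s0 * t) * (g⁻¹ * t * g)⁻¹) * t⁻¹ := by group
        _ = _ := by rw [hinv _ h2 h3 h1 _ hsP, hinv t t2 t1 htP _ (P.inv_mem hsP), inv_inv]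
    obtain ⟨j, hj⟩ := isPGroup_iff_mem.1 hP.isP _ h4
    obtain ⟨m, hm⟩ := H9.exists_pow_conj_of_odd t2 h2 (h.odd_orderOf hj)
    have h5 := P.pow_mem h4 m
    generalize (t * (g⁻¹ * t * g)) ^ m = z at hm h5
    have h6 : g * z ∈ Q := hC t ht t1 (by
      rw [H73.mem_centralizer_singleton_iff_conj]
      calc g * z * t * (g * z)⁻¹ = g * (z * t * z⁻¹) * g⁻¹ := by group
        _ = t := by rw [hm]; group)
    refine ⟨(g * z, z⁻¹ * (g⁻¹ * (s * t) * g) * z), (memA _).2 ⟨h6, fun e => hne s hs.2 ?_,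
      P.mul_mem (P.mul_mem (P.inv_mem h5) (mem_cj.1 hsP')) h5⟩, ?_⟩
    · simp only at e
      calc s * t = g * z * (z⁻¹ * (g⁻¹ * (s * t) * g) * z) * z⁻¹ * g⁻¹ := by group
        _ = 1 := by rw [e]; group
    · calc _ = s * (t * t) := by simp only [f]; group
        _ = s := by rw [t2, mul_one]
  have hfib : ∀ s ∈ S, (A.filter (f · = s)).card = 2 := by
    intro s hs
    obtain ⟨⟨c0, w0⟩, ha, rfl⟩ := hsurj s hs
    obtain ⟨hc0, w01, hw0⟩ := (memA _).1 ha
    simp only at hc0 w01 hw0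
    rw [Finset.card_eq_two]
    refine ⟨(c0, w0), (c0 * t, w0⁻¹), fun e => t1 (by simpa using congrArg Prod.fst e), ?_⟩
    ext ⟨c, w⟩
    simp only [Finset.mem_filter, memA, f, Finset.mem_insert, Finset.mem_singleton, Prod.mk.injEq,
      mul_left_inj]
    constructor
    · rintro ⟨⟨hc, w1, hw⟩, e⟩
      have hd : c0⁻¹ * c ∈ Q := Q.mul_mem (Q.inv_mem hc0) hc
      have e1 : c0⁻¹ * c * w * (c0⁻¹ * c)⁻¹ = w0 := by
        calc _ = c0⁻¹ * (c * w * c⁻¹) * c0 := by group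
          _ = w0 := by rw [e]; group
      have ec : c = c0 * (c0⁻¹ * c) := by group
      generalize c0⁻¹ * c = d at hd e1 ec
      by_cases d1 : d = 1
      · left
        rw [d1] at e1 ec
        exact ⟨by rw [ec, mul_one], by rw [← e1]; group⟩
      right
      have hdP : d ∈ 𝐍(P) := by
        rw [← cj_eq_self_iff]
        conv_lhs => rw [← hCP w hw w1]
        rw [cj_centralizer_singleton, e1, hCP w0 hw0 w01]
      have e2 := hinv d (h.sq Q hQ d hd) d1 hdP w hw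
      have e3 : d * t = 1 := by
        by_contra hn
        obtain ⟨j, hj⟩ := isPGroup_iff_mem.1 hP.isP w hw
        refine w1 (hA w j hj (d * t) (h.sq Q hQ _ (Q.mul_mem hd ht)) hn
          (H73.commute_of_conj_eq ?_))
        calc _ = d * (t * w * t⁻¹) * d⁻¹ := by group
          _ = (d * w * d⁻¹)⁻¹ := by rw [hinv t t2 t1 htP w hw]; group
          _ = w := by rw [e2, inv_inv]
      exact ⟨by rw [ec, mul_eq_one_iff_eq_inv.1 e3, tinv], by rw [← e1, e2, inv_inv]⟩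
    · rintro (⟨rfl, rfl⟩ | ⟨rfl, rfl⟩)
      · exact ⟨⟨hc0, w01, hw0⟩, rfl⟩
      · refine ⟨⟨Q.mul_mem hc0 ht, inv_ne_one.2 w01, P.inv_mem hw0⟩, ?_⟩
        calc _ = c0 * (t * w0⁻¹ * t⁻¹) * c0⁻¹ := by group
          _ = _ := by rw [hinv t t2 t1 htP _ (P.inv_mem hw0), inv_inv]
  have e1 := Finset.card_eq_sum_card_fiberwise (f := f) (s := A) (t := S) hmaps
  rw [Finset.sum_congr rfl hfib, Finset.sum_const, smul_eq_mul] at e1
  have e2 : A.card = (p + 1) * (Nat.card P - 1) := by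
    rw [Finset.card_product, Finset.card_erase_of_mem (by simp), ← h.card2 Q hQ]
    simp [Fintype.card_subtype]
  have h1 : p ∣ (p + 1) * (Nat.card P - 1) := by rw [← e2, e1]; exact hpS.mul_right _
  have h2 : p ∣ Nat.card P := dvd_card_of_ne_bot hP.isP fun e => hne _ hs0 (by rwa [e] at hsP)
  rcases (Nat.Prime.dvd_mul hp.out).1 h1 with h3 | h3
  · exact hp.out.one_lt.ne' (Nat.dvd_one.1 ((Nat.dvd_add_right dvd_rfl).1 h3))
  · have h4 : 0 < Nat.card P := Nat.card_pos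
    have := (Nat.dvd_sub h2 h3)
    rw [show Nat.card P - (Nat.card P - 1) = 1 by omega] at this
    exact hp.out.one_lt.ne' (Nat.dvd_one.1 this)

end MX

end H92
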