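import Cfsg.Agent.Lib.Misc92.Mixed2
import Cfsg.Agent.S4018

/-! The remaining case, reduced to the configuration with `p = 3`. -/

set_option autoImplicit false

namespace H92

open Subgroup H69

variable {G : Type*} [Group G] [Finite G] {p : ℕ}

namespace MX

variable [hp : Fact p.Prime] (h : MX p G)
include h

theorem caseC {x t : G} {k : ℕ} (hx1 : x ≠ 1) (hx : x ^ p ^ k = 1) (t1 : t ≠ 1) (t2 : t * t = 1)
    (hxt : t * x = x * t)
    (hB : ∀ Q, IsSylowIn 2 Q ⊤ → ∀ (y : G) (j : ℕ), y ^ p ^ j = 1 → y ∈ 𝐂(Q) → y = 1) : False := by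
  classical
  obtain ⟨Q, hQ, htQ⟩ := exists_isSylowIn_le (isPGroup_zpowers_of_sq t2) (le_top : zpowers t ≤ ⊤)
  have ht : t ∈ Q := htQ (mem_zpowers t)
  obtain ⟨R, hR⟩ := exists_isSylowIn p (centralizer ({t} : Set G))
  obtain ⟨P, hP, hRP⟩ := exists_isSylowIn_le hR.isP (le_top : R ≤ ⊤)
  have hxR : x ∈ R := h.mem_of_cent t1 t2 hR hx hxt.symm
  have hxP := hRP hxR
  have hQt : Q ≤ centralizer ({t} : Set G) :=
    (h.comm2 hQ).trans ((centralizer_anti (zpowers_le.2 ht)).trans (centralizer_zpowers t).le)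
  have hQP : Q ≤ 𝐍(P) := h.lemX hQ hP hRP (fun e => hx1 (by rwa [e] at hxR))
    (hQt.trans (h.cent_le_norm t1 t2 hR))
    (fun hn => hx1 (hB Q hQ x k hx (le_centralizer_iff.1 hn hxR)))
  have hD : ∀ (D : Subgroup G) (g : G), D ≠ ⊥ → D ≤ P → D ≤ P ^ᶜ g → Q ≤ 𝐍(D) → g ∈ 𝐍(P) := by
    intro D g hne h1 h2 h3
    have hP' := hP.cj_of_mem (mem_top g)
    have h4 := h.le_of_hall hQ hP (h.norm_ne_top_p (hP.isP.to_le h1) hne) h3
      (((h.ab P hP.isP).trans (centralizer_anti h1)).trans (centralizer_le_normalizer _)) hQP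
      le_normalizer
    exact mem_normalizer_of_cj_le (hP.le_of_le_normalizer' hP'.isP le_top
      ((((h.ab _ hP'.isP).trans (centralizer_anti h2)).trans (centralizer_le_normalizer _)).trans h4))
  have hinv : ∀ u ∈ Q, u ≠ 1 → u ≠ t → ∀ w ∈ P, u * w * u⁻¹ = w⁻¹ := by
    intro u hu u1 ut
    refine H73.inverts_of_fpf (N := P) (h.sq Q hQ u hu)
      (fun n hn => conj_mem_of_mem_normalizer (hQP hu) hn) fun y hy hyu => ?_
    by_contra y1
    obtain ⟨g, hg, ⟨j, hj⟩, e⟩ := h.trans Q hQ t ht t1 u hu u1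
    obtain ⟨i, hi⟩ := isPGroup_iff_mem.1 hP.isP y hy
    have h1 : y ∈ P ^ᶜ g := by
      rw [mem_cj]
      refine hRP (h.mem_of_cent t1 t2 hR (k := i) (by simpa using conj_pow_eq_one hi g⁻¹) ?_)
      calc _ = g⁻¹ * (y * (g * t * g⁻¹)) * g := by group
        _ = g⁻¹ * (g * t * g⁻¹ * y) * g := by rw [e, hyu.eq]
        _ = _ := by group
    have h2 : Q ≤ 𝐍(P ^ᶜ g) := by
      rw [← cj_normalizer, ← cj_eq_of_mem_normalizer hg]
      exact cj_mono g hQP
    have h3 := hD (P ⊓ P ^ᶜ g) g (fun e => y1 (by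
      have : y ∈ P ⊓ P ^ᶜ g := ⟨hy, h1⟩
      rwa [e] at this)) inf_le_left inf_le_right (le_normalizer_inf hQP h2)
    exact ut (e.symm.trans (h.cent_of_norm hQ hP hQP hg hj h3 ht))
  have hprod : ∀ u ∈ Q, u ≠ 1 → u ≠ t → ∀ v ∈ Q, v ≠ 1 → v ≠ t → ∀ w ∈ P,
      u * v * w * (u * v)⁻¹ = w := by
    intro u hu u1 ut v hv v1 vt w hw
    calc _ = u * (v * w * v⁻¹) * u⁻¹ := by group
      _ = w := by rw [hinv v hv v1 vt w hw, hinv u hu u1 ut _ (P.inv_mem hw), inv_inv]
  have hcent : ∀ u ∈ Q, u ∈ 𝐂(P) → u = 1 ∨ u = t := by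
    intro u hu hc
    by_contra hn
    push Not at hn
    exact hx1 (h.eq_one_of_inv hx
      ((hinv u hu hn.1 hn.2 x hxP).symm.trans (conj_eq_of_mem_centralizer hc hxP)))
  obtain ⟨u, hu, u1, ut, -⟩ := h.exists_ne hQ t 1
  have u2 := h.sq Q hQ u hu
  have hp3 : p = 3 := by
    have h3 := h.three_le
    have hsub : (Q : Set G) ⊆ ({1, t, u, u * t} : Finset G) := by
      intro v hv
      by_cases v1 : v = 1
      · simp [v1]
      by_cases vt : v = t
      · simp [vt]
      have h1 : v = u * (u * v) := by rw [← mul_assoc, u2, one_mul]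
      rcases hcent _ (Q.mul_mem hu hv) (mem_centralizer_iff_commute.2 fun w hw =>
        (H73.commute_of_conj_eq (hprod u hu u1 ut v hv v1 vt w hw)).symm) with e | e
      · rw [e, mul_one] at h1; simp [h1]
      · rw [e] at h1; simp [h1]
    have h4 := Set.ncard_le_ncard hsub (Finset.finite_toSet _)
    rw [Set.ncard_coe_finset] at h4
    have h5 : ({1, t, u, u * t} : Finset G).card ≤ 4 := Finset.card_le_four
    have h6 : (Q : Set G).ncard = Nat.card Q := (Nat.card_coe_set_eq _).symm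
    have := h.card2 Q hQ
    omega
  have htC : t ∈ 𝐂(P) := mem_centralizer_iff_commute.2 fun w hw => by
    have := hprod u hu u1 ut (u * t) (Q.mul_mem hu ht)
      (fun e => ut (by rw [mul_eq_one_iff_eq_inv.1 e, inv_eq_of_mul_eq_one_right t2]))
      (fun e => u1 (by simpa using e)) w hw
    rw [← mul_assoc u u t, u2, one_mul] at this
    exact (H73.commute_of_conj_eq this).symm
  have hPne : P ≠ ⊥ := fun e => hx1 (by rwa [e] at hxP)
  have hN := h.norm_ne_top_p hP.isP hPne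
  have hPt : P ≤ centralizer ({t} : Set G) :=
    (le_centralizer_iff.1 (zpowers_le.2 htC)).trans (centralizer_zpowers t).le
  have hCN : 𝐂(P) ≤ 𝐍(P) := centralizer_le_normalizer _
  have hevN := h.ev _ hN (h.two_dvd hQ hQP)
  have hT : IsSylowIn 2 (zpowers t) 𝐂(P) := by
    have := (hQ.mono hQP le_top).inf_normal hCN (normalizer_le_normalizer_centralizer P)
    rwa [show Q ⊓ 𝐂(P) = zpowers t from le_antisymm (fun v hv =>
      (H73.mem_zpowers_of_mul_self t2).2 (hcent v hv.1 hv.2)) (le_inf htQ (zpowers_le.2 htC))] at this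
  have hNt : 𝐍(P) ≤ centralizer ({t} : Set G) := h.le_of_hall hQ hP hN hQP le_normalizer hQt hPt
  have htN : centralizer ({t} : Set G) ≤ 𝐍(P) :=
    h.le_of_hall hQ hP (h.cent1_ne_top t1 t2) hQt hPt hQP le_normalizer
  have c1 : Nat.card 𝐍(P) = 4 * Nat.card P := by
    rw [card_eq_mul_two h.hp2 hevN (hQ.mono hQP le_top) (hP.mono le_normalizer le_top),
      h.card2 Q hQ, hp3]
  have c2 : Nat.card 𝐂(P) = 2 * Nat.card P := by
    rw [card_eq_mul_two h.hp2 (fun r hr hd => hevN r hr (hd.trans (card_dvd_of_le hCN))) hT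
      (hP.mono (h.ab P hP.isP) le_top), Nat.card_zpowers, H9.orderOf_eq_two_of_mul_self t1 t2]
  have c3 : Cfsg.IsTISubset (𝐂(P) : Set G) := by
    intro g hg y hy hgy
    by_contra y1
    refine hg (normalizer_le_normalizer_centralizer P ?_)
    obtain ⟨r, hr, hrd⟩ := Nat.exists_prime_and_dvd (mt orderOf_eq_one_iff.1 y1)
    obtain ⟨w, ⟨i, rfl⟩, hw⟩ := H1.exists_mem_orderOf_eq_prime (H := zpowers y) hr
      (by rwa [Nat.card_zpowers])
    simp only at hw
    have h1 : y ^ i ∈ 𝐂(P) := zpow_mem hy i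
    have h2 : g * y ^ i * g⁻¹ ∈ 𝐂(P) := by
      rw [← conj_zpow]; exact zpow_mem hgy i
    generalize y ^ i = w at hw h1 h2
    have w1 : w ≠ 1 := by rintro rfl; rw [orderOf_one] at hw; exact hr.one_lt.ne hw
    have w1' : g * w * g⁻¹ ≠ 1 := fun e => w1 (by simpa using e)
    rcases hevN r hr (hw ▸ orderOf_dvd_natCard _ (hCN h1)) with e | e
    · have hwp : w ^ p ^ 1 = 1 := by rw [pow_one, ← e, ← hw, pow_orderOf_eq_one]
      have mem : ∀ a ∈ 𝐂(P), a ^ p ^ 1 = 1 → a ∈ P := fun a ha e =>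
        hP.le_of_le_normalizer' (isPGroup_zpowers_of_pow e) le_top (zpowers_le.2 (hCN ha))
          (mem_zpowers a)
      have h3 := mem _ h2 (conj_pow_eq_one hwp g)
      refine hD (zpowers (g * w * g⁻¹)) g (mt zpowers_eq_bot.1 w1') (zpowers_le.2 h3)
        (zpowers_le.2 (cj_mem g (mem w h1 hwp))) fun v hv => ?_
      by_cases hvC : v ∈ 𝐂(P)
      · exact centralizer_le_normalizer _ (centralizer_anti (zpowers_le.2 h3) hvC)
      · exact mem_norm_zpowers_of_inv (hinv v hv (fun e => hvC (e ▸ one_mem _))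
          (fun e => hvC (e ▸ htC)) _ h3)
    · have w2 : w * w = 1 := H9.mul_self_of_orderOf_two (hw.trans e)
      have eq : ∀ a ∈ 𝐂(P), a * a = 1 → a ≠ 1 → a = t := fun a ha a2 a1 =>
        ((H73.mem_zpowers_of_mul_self t2).1 (hT.le_of_le_normalizer' (isPGroup_zpowers_of_sq a2)
          (zpowers_le.2 ha) (zpowers_le.2 (centralizer_le_normalizer _
            ((centralizer_zpowers t).ge (hNt (hCN ha))))) (mem_zpowers a))).resolve_left a1
      refine htN (H73.mem_centralizer_singleton_iff_conj.2 ?_)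
      rw [← eq w h1 w2 w1] at *
      exact eq _ h2 (H73.conj_mul_self w2 g) w1'
  have c4 : ∀ H : Subgroup G, H ≠ ⊤ → 2 ∣ Nat.card H → Nat.card H ∣ 4 * Nat.card P := by
    intro H hH h2
    obtain ⟨T, hT⟩ := exists_isSylowIn 2 H
    obtain ⟨R', hR'⟩ := exists_isSylowIn p H
    rw [card_eq_mul_two h.hp2 (h.ev H hH h2) hT hR']
    refine mul_dvd_mul ?_ (hP.card_dvd hR'.isP le_top)
    have := hQ.card_dvd hT.isP le_top
    rwa [h.card2 Q hQ, hp3] at this
  have c0 : IsMulCommutative P := le_centralizer_iff_isMulCommutative.1 (h.ab P hP.isP)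
  subst hp3
  obtain ⟨P0, rfl⟩ := hP.exists_sylow_top
  exact Cfsg.Agent.S4018.result P0 c0 c1 c2 c3 c4 h.simple

theorem false : False := by
  by_cases hA : ∀ (x : G) (k : ℕ), x ^ p ^ k = 1 → ∀ z : G, z * z = 1 → z ≠ 1 →
    z * x = x * z → x = 1
  · exact h.caseA hA
  push Not at hA
  obtain ⟨x, k, hx, z, z2, z1, hz, x1⟩ := hA
  refine h.caseC x1 hx z1 z2 hz fun Q hQ y j hy hc => ?_
  by_contra y1
  exact h.caseB hQ y1 hy hc

end MX

end H92
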