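import Cfsg.Agent.Lib.Misc92.Mixed3
import Cfsg.Agent.Lib.Transfer.NormalComplement

/-! Groups all of whose `p'`-subgroups are `q`-groups or `q'`-groups, with `p` large. -/

set_option autoImplicit false

namespace H92

open Subgroup H69

universe u

theorem noMix {G : Type*} [Group G] [Finite G] {p q r : ℕ} [hp : Fact p.Prime] [hq : Fact q.Prime]
    [hr : Fact r.Prime] (hpq : p ≠ q) (hrp : r ≠ p) (hrq : r ≠ q)
    (hA : ∀ H : Subgroup G, ¬ p ∣ Nat.card H → q ∣ Nat.card H → IsPGroup q H) {A B : Subgroup G}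
    (h1 : IsPGroup q A) (h2 : IsPGroup r B) (a1 : A ≠ ⊥) (b1 : B ≠ ⊥)
    (h : A ≤ 𝐍(B) ∨ B ≤ 𝐍(A)) : False := by
  have hd : Nat.card (A ⊔ B : Subgroup G) ∣ Nat.card A * Nat.card B := by
    rcases h with h | h
    · exact H1.card_sup_dvd_of_le_normalizer h
    · rw [sup_comm, mul_comm]; exact H1.card_sup_dvd_of_le_normalizer h
  obtain ⟨a, ha⟩ := IsPGroup.iff_card.1 h1
  obtain ⟨b, hb⟩ := IsPGroup.iff_card.1 h2
  have h3 := hA (A ⊔ B) (fun e => by
    have := e.trans hd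
    rw [ha, hb] at this
    rcases (Nat.Prime.dvd_mul hp.out).1 this with e | e
    · exact hpq ((Nat.prime_dvd_prime_iff_eq hp.out hq.out).1 (hp.out.dvd_of_dvd_pow e))
    · exact hrp ((Nat.prime_dvd_prime_iff_eq hp.out hr.out).1 (hp.out.dvd_of_dvd_pow e)).symm)
    ((dvd_card_of_ne_bot h1 a1).trans (card_dvd_of_le le_sup_left))
  obtain ⟨c, hc⟩ := IsPGroup.iff_card.1 (h3.to_le (le_sup_right : B ≤ A ⊔ B))
  have := dvd_card_of_ne_bot h2 b1
  rw [hc] at this
  exact hrq ((Nat.prime_dvd_prime_iff_eq hr.out hq.out).1 (hr.out.dvd_of_dvd_pow this))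

theorem card_dvd_frattini {G : Type*} [Group G] [Finite G] {s : ℕ} [Fact s.Prime] {N T : Subgroup G}
    [N.Normal] (h : IsSylowIn s T N) : Nat.card G ∣ Nat.card 𝐍(T) * Nat.card N := by
  have e := h.frattini_sup (L := ⊤) le_top (normalizer_eq_top N).ge
  have := H1.card_sup_dvd_of_normal (𝐍(T)) N
  rwa [sup_comm, ← top_inf_eq 𝐍(T), e, card_top, top_inf_eq] at this

theorem mixed_main (p q : ℕ) [hp : Fact p.Prime] [hq : Fact q.Prime] (hpq : p ≠ q) (hp2 : p ≠ 2)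
    (n : ℕ) : ∀ (G : Type u) [Group G] [Finite G], Nat.card G = n → q ∣ Nat.card G →
      (∀ H : Subgroup G, ¬ p ∣ Nat.card H → q ∣ Nat.card H → IsPGroup q H) →
      (∀ U : Subgroup G, IsPGroup q U → Nat.card U ≤ p + 1) →
      (∀ U : Subgroup G, IsPGroup q U → Nat.card U = p + 1 →
        ∀ X : Subgroup G, IsPGroup p X → X ≤ 𝐂(X)) →
      ∀ r : ℕ, r.Prime → r ∣ Nat.card G → r = p ∨ r = q := by
  induction n using Nat.strong_induction_on with
  | _ n ih =>
  intro G _ _ hn hqG hA hle hab r hr hrG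
  by_contra hne
  push Not at hne
  obtain ⟨hrp, hrq⟩ := hne
  have := Fact.mk hr
  have hN1 : ∀ (U : Subgroup G) (s : ℕ), IsPGroup q U → U ≠ ⊥ → s.Prime → s ∣ Nat.card 𝐍(U) →
      s = p ∨ s = q := by
    intro U s hU U1 hs hd
    by_contra hne
    push Not at hne
    have := Fact.mk hs
    obtain ⟨B, h1, h2, h3⟩ := exists_isPGroup_ne_bot_of_dvd hd
    exact noMix hpq hne.1 hne.2 hA hU h2 U1 h3 (Or.inr h1)
  have hN2 : ∀ (S : Subgroup G) (s : ℕ), s.Prime → s ≠ p → s ≠ q → IsPGroup s S → S ≠ ⊥ →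
      ¬ q ∣ Nat.card 𝐍(S) := by
    intro S s hs h1 h2 hS S1 hd
    have := Fact.mk hs
    obtain ⟨B, h3, h4, h5⟩ := exists_isPGroup_ne_bot_of_dvd hd
    exact noMix hpq h1 h2 hA h4 hS h5 S1 (Or.inl h3)
  by_cases hF : ∀ X : Subgroup G, IsPGroup q X → ∀ g ∈ 𝐍(X), Nat.Coprime (orderOf g) q → g ∈ 𝐂(X)
  · obtain ⟨Q, K, hK, hc⟩ := H4.hasNormalPComplement_of_forall_normalizer hF
    have hqK : ¬ q ∣ Nat.card K := by
      rw [← hc.index_eq_card]; exact Q.not_dvd_index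
    have hrK : r ∣ Nat.card K := by
      rw [← hc.card_mul] at hrG
      refine ((Nat.Prime.dvd_mul hr).1 hrG).resolve_right fun e => ?_
      obtain ⟨a, ha⟩ := IsPGroup.iff_card.1 Q.2
      rw [ha] at e
      exact hrq ((Nat.prime_dvd_prime_iff_eq hr hq.out).1 (hr.dvd_of_dvd_pow e))
    obtain ⟨R, hR⟩ := exists_isSylowIn r K
    exact hN2 R r hr hrp hrq hR.isP (hR.dvd_card_iff.1 hrK)
      (((Nat.Prime.dvd_mul hq.out).1 (hqG.trans (card_dvd_frattini hR))).resolve_right hqK)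
  push Not at hF
  obtain ⟨U, hU, g, hg, hgq, hgC⟩ := hF
  have U1 : U ≠ ⊥ := by rintro rfl; exact hgC (by rw [centralizer_bot]; trivial)
  obtain ⟨k, hk⟩ : ∃ k, g ^ p ^ k = 1 := by
    refine ⟨_, orderOf_dvd_iff_pow_eq_one.1 (Nat.eq_prime_pow_of_unique_prime_dvd
      (p := p) (orderOf_pos g).ne' fun {s} hs hd => ?_).dvd⟩
    refine (hN1 U s hU U1 hs (hd.trans (orderOf_dvd_natCard _ hg))).resolve_right ?_
    rintro rfl
    exact hs.one_lt.ne' (Nat.eq_one_of_dvd_coprimes hgq hd dvd_rfl)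
  obtain ⟨u0, hu0, hu0g⟩ : ∃ u0 ∈ U, g * u0 * g⁻¹ ≠ u0 := by
    by_contra hn
    push Not at hn
    exact hgC (mem_centralizer_iff_commute.2 fun a ha => (H73.commute_of_conj_eq (hn a ha)).symm)
  let O : Set G := {x | ∃ i : ℤ, g ^ i * u0 * (g ^ i)⁻¹ = x}
  have hOU : O ⊆ (U : Set G) \ {1} := by
    rintro x ⟨i, rfl⟩
    refine ⟨conj_mem_of_mem_normalizer (zpow_mem hg i) hu0, fun e => hu0g ?_⟩
    have : u0 = 1 := by simpa using e
    rw [this]; group
  have hpO : p ∣ Nat.card O := dvd_card_of_fpf O hk (by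
      rintro x ⟨i, rfl⟩
      exact ⟨1 + i, by group⟩) (by
      rintro x ⟨i, rfl⟩ e
      apply hu0g
      calc g * u0 * g⁻¹ = (g ^ i)⁻¹ * (g * (g ^ i * u0 * (g ^ i)⁻¹) * g⁻¹) * g ^ i := by group
        _ = u0 := by rw [e]; group)
  have hO0 : 0 < Nat.card O := by
    have : Nonempty O := ⟨⟨u0, 0, by group⟩⟩
    exact Nat.card_pos
  have hO1 : p ≤ O.ncard := Nat.le_of_dvd hO0 hpO
  have hU1 : ((U : Set G) \ {1}).ncard = Nat.card U - 1 := by
    rw [Set.ncard_diff_singleton_of_mem U.one_mem]; rfl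
  have hO2 := Set.ncard_le_ncard hOU (Set.toFinite _)
  have hUle := hle U hU
  have hU0 : 0 < Nat.card U := Nat.card_pos
  have hUc : Nat.card U = p + 1 := by omega
  have hOeq : O = (U : Set G) \ {1} := Set.eq_of_subset_of_ncard_le hOU (by omega) (Set.toFinite _)
  have htr : ∀ u ∈ U, u ≠ 1 → ∀ v ∈ U, v ≠ 1 →
      ∃ g ∈ 𝐍(U), (∃ k : ℕ, g ^ p ^ k = 1) ∧ g * u * g⁻¹ = v := by
    intro u hu u1 v hv v1
    obtain ⟨i, rfl⟩ : u ∈ O := hOeq.ge ⟨hu, u1⟩
    obtain ⟨j, rfl⟩ : v ∈ O := hOeq.ge ⟨hv, v1⟩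
    refine ⟨g ^ (j - i), zpow_mem hg _, ⟨k, ?_⟩, by group⟩
    rw [← zpow_natCast, ← zpow_mul, mul_comm, zpow_mul, zpow_natCast, hk, one_zpow]
  have hab' := hab U hU hUc
  have hq2 : q = 2 := by
    obtain ⟨a, ha⟩ := IsPGroup.iff_card.1 hU
    have h2 : 2 ∣ q ^ a := by
      rw [← ha, hUc]; exact (hp.out.odd_of_ne_two hp2).add_one.two_dvd
    exact ((Nat.prime_dvd_prime_iff_eq Nat.prime_two hq.out).1
      (Nat.prime_two.dvd_of_dvd_pow h2)).symm
  subst hq2
  have hUS : IsSylowIn 2 U ⊤ := ⟨le_top, hU, fun R h1 _ h2 =>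
    (eq_of_le_of_card_ge h1 (by rw [hUc]; exact hle R h2)).symm⟩
  have hsq : ∀ x ∈ U, x * x = 1 := by
    intro x hx
    by_cases x1 : x = 1
    · rw [x1, mul_one]
    obtain ⟨t, ht, t2⟩ := exists_orderOf_eq_prime hU U1
    obtain ⟨c, -, -, rfl⟩ := htr t ht (H9.ne_one_of_orderOf_two t2) x hx x1
    exact H73.conj_mul_self (H9.mul_self_of_orderOf_two t2) c
  have hev : ∀ L : Subgroup G, L ≠ ⊤ → 2 ∣ Nat.card L →
      ∀ r : ℕ, r.Prime → r ∣ Nat.card L → r = p ∨ r = 2 := by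
    intro L hL h2
    refine ih _ (hn ▸ H1.card_lt_of_ne_top hL) L rfl h2 (fun H h1 h2 => ?_) (fun V hV => ?_)
      (fun _ _ _ X hX x hx => ?_)
    · rw [← card_map_subtype] at h1 h2
      exact isPGroup_map_subtype_iff.1 (hA _ h1 h2)
    · rw [← card_map_subtype]
      exact hle _ (isPGroup_map_subtype_iff.2 hV)
    · refine mem_centralizer_iff_commute.2 fun a ha => Subtype.ext ?_
      exact mem_centralizer_iff_commute.1 (hab' _ (isPGroup_map_subtype_iff.2 hX)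
        (mem_map_of_mem L.subtype hx)) _ (mem_map_of_mem L.subtype ha)
  have hsimple : IsSimpleGroup G := by
    have : Nontrivial G := (Subgroup.nontrivial_iff).1 ⟨U, ⊥, U1⟩
    refine ⟨fun N hN => ?_⟩
    by_contra hne
    push Not at hne
    obtain ⟨N1, N2⟩ := hne
    by_cases h2 : 2 ∣ Nat.card N
    · obtain ⟨T, hT⟩ := exists_isSylowIn 2 N
      rcases (Nat.Prime.dvd_mul hr).1 (hrG.trans (card_dvd_frattini hT)) with e | e
      · exact (hN1 T r hT.isP (hT.dvd_card_iff.1 h2) hr e).elim hrp hrq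
      · exact (hev N N2 h2 r hr e).elim hrp hrq
    have hNp : IsPGroup p N := by
      refine IsPGroup.of_card (Nat.eq_prime_pow_of_unique_prime_dvd (p := p)
        Nat.card_pos.ne' fun {s} hs hd => ?_)
      by_contra hsp
      have := Fact.mk hs
      obtain ⟨S, hS⟩ := exists_isSylowIn s N
      exact hN2 S s hs hsp (by rintro rfl; exact h2 hd) hS.isP (hS.dvd_card_iff.1 hd)
        (((Nat.Prime.dvd_mul Nat.prime_two).1 (hqG.trans (card_dvd_frattini hS))).resolve_right h2)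
    obtain ⟨b, hb⟩ := IsPGroup.iff_card.1 hNp
    have hcard := card_eq_card_quotient_mul_card_subgroup N
    have hcompl : ∀ H : Subgroup (G ⧸ N), ¬ p ∣ Nat.card H →
        ∃ K : Subgroup G, Nat.card K = Nat.card H := by
      intro H hH
      set H' := H.comap (QuotientGroup.mk' N) with hH'
      have hNH : N ≤ H' := QuotientGroup.le_comap_mk' N H
      have e1 : Nat.card (N.subgroupOf H') = Nat.card N := card_subgroupOf hNH
      have e2 : (N.subgroupOf H').index = Nat.card H := by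
        have h1 := (N.subgroupOf H').card_mul_index
        rw [e1, H1.card_comap_mk', mul_comm] at h1
        exact Nat.eq_of_mul_eq_mul_right Nat.card_pos h1
      obtain ⟨K, hK⟩ := exists_right_complement'_of_coprime (N := N.subgroupOf H') (by
        rw [e1, e2, hb]
        exact Nat.Coprime.pow_left _ ((Nat.Prime.coprime_iff_not_dvd hp.out).2 hH))
      exact ⟨K.map H'.subtype, by rw [card_map_subtype, ← e2, hK.symm.index_eq_card]⟩
    have := ih _ (hn ▸ H1.card_quotient_lt N1) (G ⧸ N) rfl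
      (((Nat.Prime.dvd_mul Nat.prime_two).1 (hcard ▸ hqG)).resolve_right h2)
      (fun H h1 h2 => by
        obtain ⟨K, hK⟩ := hcompl H h1
        obtain ⟨a, ha⟩ := IsPGroup.iff_card.1 (hA K (hK ▸ h1) (hK ▸ h2))
        exact IsPGroup.of_card (hK ▸ ha))
      (fun V hV => by
        obtain ⟨a, ha⟩ := IsPGroup.iff_card.1 hV
        obtain ⟨K, hK⟩ := hcompl V (fun e => by
          rw [ha] at e
          exact hp2 ((Nat.prime_dvd_prime_iff_eq hp.out Nat.prime_two).1 (hp.out.dvd_of_dvd_pow e)))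
        exact hK ▸ hle K (IsPGroup.of_card (hK.trans ha)))
      (fun _ _ _ X hX x hx => by
        have h1 := hab' _ (hX.comap_of_ker_isPGroup (QuotientGroup.mk' N)
          (by rwa [QuotientGroup.ker_mk']))
        refine mem_centralizer_iff_commute.2 fun a ha => ?_
        obtain ⟨x, rfl⟩ := QuotientGroup.mk'_surjective N x
        obtain ⟨a, rfl⟩ := QuotientGroup.mk'_surjective N a
        rw [← map_mul, ← map_mul, mem_centralizer_iff_commute.1 (h1 hx) a ha])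
      r hr (((Nat.Prime.dvd_mul hr).1 (hcard ▸ hrG)).resolve_right fun e => by
        rw [hb] at e
        exact hrp ((Nat.prime_dvd_prime_iff_eq hr hp.out).1 (hr.dvd_of_dvd_pow e)))
    exact this.elim hrp hrq
  refine MX.false (p := p) (G := G) ⟨hsimple, hp2, fun Q hQ => ?_, fun Q hQ x hx => ?_,
    fun Q hQ u hu u1 v hv v1 => ?_, hab', hev⟩
  · rw [hQ.card_eq hUS, hUc]
  · obtain ⟨c, -, rfl⟩ := hUS.conj hQ
    obtain ⟨a, ha, rfl⟩ := mem_cj'.1 hx
    exact H73.conj_mul_self (hsq a ha) c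
  · obtain ⟨c, -, rfl⟩ := hUS.conj hQ
    obtain ⟨a, ha, rfl⟩ := mem_cj'.1 hu
    obtain ⟨b, hb, rfl⟩ := mem_cj'.1 hv
    obtain ⟨d, hd, ⟨j, hj⟩, rfl⟩ := htr a ha (fun e => u1 (by simp [e])) b hb
      (fun e => v1 (by simp [e]))
    refine ⟨c * d * c⁻¹, ?_, ⟨j, conj_pow_eq_one hj c⟩, by group⟩
    rw [← cj_normalizer]
    exact cj_mem c hd

end H92
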