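import Cfsg.Agent.Lib.ZJ.CenterE
import Cfsg.Agent.Lib.GL.SylowSL2
import Cfsg.Agent.Lib.Thompson.StableClosure

/-!
# No quadratic action for groups without quaternion sections (helper92)
-/

set_option autoImplicit false

namespace H92

open Subgroup Cfsg
open scoped commutatorElement MatrixGroups

/-- In every `2`-subgroup, the elements of order at least four commute. -/
def NQ (X : Type*) [Group X] : Prop :=
  ∀ R : Subgroup X, IsPGroup 2 R → ∀ x ∈ R, ∀ y ∈ R, x * x ≠ 1 → y * y ≠ 1 → x * y = y * x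

variable {X Y : Type*} [Group X] [Group Y]

theorem NQ.of_injective (h : NQ X) (f : Y →* X) (hf : Function.Injective f) : NQ Y :=
  fun R hR x hx y hy h1 h2 => hf (by
    rw [map_mul, map_mul]
    refine h _ (hR.map f) _ (mem_map_of_mem f hx) _ (mem_map_of_mem f hy) (fun e => h1 (hf ?_))
      fun e => h2 (hf ?_)
    all_goals rw [map_mul, e, map_one])

theorem NQ.of_surjective [Finite X] (h : NQ X) (f : X →* Y) (hf : Function.Surjective f) : NQ Y := by
  have : Fact (Nat.Prime 2) := ⟨Nat.prime_two⟩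
  intro R hR x hx y hy h1 h2
  obtain ⟨S, hS⟩ := hR.exists_le_sylow
  obtain ⟨T, rfl⟩ := Sylow.mapSurjective_surjective hf 2 S
  obtain ⟨a, ha, rfl⟩ := hS hx
  obtain ⟨b, hb, rfl⟩ := hS hy
  rw [← map_mul, ← map_mul, h _ T.isPGroup' a ha b hb (fun e => h1 (by rw [← map_mul, e, map_one]))
    fun e => h2 (by rw [← map_mul, e, map_one])]

theorem NQ.of_sylow (h : ∀ S : Sylow 2 X, ∀ x ∈ (S : Subgroup X), ∀ y ∈ (S : Subgroup X),
    x * x ≠ 1 → y * y ≠ 1 → x * y = y * x) : NQ X := fun R hR x hx y hy => by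
  obtain ⟨S, hS⟩ := hR.exists_le_sylow
  exact h S x (hS hx) y (hS hy)

theorem dihedral_comm {n : ℕ} (x y : DihedralGroup n) (h1 : x * x ≠ 1) (h2 : y * y ≠ 1) :
    x * y = y * x := by
  rcases x with i | i
  · rcases y with j | j
    · simp [add_comm]
    · exact absurd (DihedralGroup.sr_mul_self j) h2
  · exact absurd (DihedralGroup.sr_mul_self i) h1

theorem nq_psl {F : Type*} [Field F] [Finite F] (hF : Odd (Nat.card F)) : NQ PSL(2, F) := by
  obtain ⟨k, -, -, -, -, h⟩ := H10.exists_sylow_two_SL_two hF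
  refine NQ.of_sylow fun S x hx y hy h1 h2 => ?_
  obtain ⟨e⟩ := h S
  have := dihedral_comm (e ⟨x, hx⟩) (e ⟨y, hy⟩)
    (fun h => h1 (congrArg Subtype.val (e.injective (a₁ := ⟨x, hx⟩ * ⟨x, hx⟩) (a₂ := 1)
      (by rw [map_mul, h, map_one]))))
    (fun h => h2 (congrArg Subtype.val (e.injective (a₁ := ⟨y, hy⟩ * ⟨y, hy⟩) (a₂ := 1)
      (by rw [map_mul, h, map_one]))))
  rw [← map_mul, ← map_mul] at this
  exact congrArg Subtype.val (e.injective this)

theorem not_nq_sl {F : Type*} [Field F] [Finite F] (hF : Odd (Nat.card F)) : ¬ NQ SL(2, F) := by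
  obtain ⟨k, hk, -, -, h, -⟩ := H10.exists_sylow_two_SL_two hF
  intro hq
  obtain ⟨S⟩ : Nonempty (Sylow 2 SL(2, F)) := inferInstance
  obtain ⟨e⟩ := h S
  have hq' : NQ (QuaternionGroup (2 ^ k)) :=
    hq.of_injective ((S : Subgroup SL(2, F)).subtype.comp e.symm.toMonoidHom)
      (Subtype.val_injective.comp e.symm.injective)
  have h4 : ∀ i, (QuaternionGroup.xa i : QuaternionGroup (2 ^ k)) * QuaternionGroup.xa i ≠ 1 :=
    fun i h => by
      have := orderOf_dvd_of_pow_eq_one ((pow_two _).trans h)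
      rw [QuaternionGroup.orderOf_xa] at this
      exact absurd this (by norm_num)
  have h5 := hq' ⊤ ((S.isPGroup'.of_equiv e).of_equiv topEquiv.symm) _ (mem_top _) _ (mem_top _)
    (h4 0) (h4 1)
  rw [QuaternionGroup.xa_mul_xa, QuaternionGroup.xa_mul_xa] at h5
  have h6 : ((2 : ℕ) : ZMod (2 * 2 ^ k)) = 0 := by
    have := QuaternionGroup.a.inj h5
    push_cast
    linear_combination this
  rw [ZMod.natCast_eq_zero_iff] at h6
  have := Nat.le_of_dvd (by norm_num) h6
  have : 2 ^ 1 ≤ 2 ^ k := Nat.pow_le_pow_right (by norm_num) hk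
  omega

/-- A faithful action of a group without quaternion sections is `p`-stable. -/
theorem mem_pCore_of_nq {V : Type*} [Group V] [Finite V] [Finite X] {p : ℕ} [Fact p.Prime]
    (hp : p ≠ 2) (hV : IsPGroup p V) (hc : ∀ a b : V, a * b = b * a) (ψ : X →* MulAut V)
    (hψ : Function.Injective ψ) (hX : NQ X) {a : X}
    (ha : ∀ v, ψ a (v * ψ a v⁻¹) = v * ψ a v⁻¹) : a ∈ pCore p X := by
  by_contra hna
  let P : Subgroup (V ⋊[ψ] X) := SemidirectProduct.inl.range
  let H : Subgroup (V ⋊[ψ] X) := SemidirectProduct.inr.range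
  have : Finite (V ⋊[ψ] X) := Finite.of_equiv _ SemidirectProduct.equivProd.symm
  have hPn : P.Normal := by
    simp only [P, SemidirectProduct.range_inl_eq_ker_rightHom]
    infer_instance
  have hP : IsPGroup p P := hV.of_equiv (MonoidHom.ofInjective SemidirectProduct.inl_injective)
  have hPc : IsMulCommutative P := ⟨⟨by
    rintro ⟨_, a, rfl⟩ ⟨_, b, rfl⟩
    exact Subtype.ext (by simp only [coe_mul]; rw [← map_mul, hc, map_mul])⟩⟩
  have hH : H ≤ normalizer (P : Set (V ⋊[ψ] X)) := by rw [normalizer_eq_top]; exact le_top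
  obtain ⟨K, L, hn, hK, ⟨e⟩⟩ := H25.ZJ.exists_sl_two_section hp hP hH
    (SemidirectProduct.rightHom.comp H.subtype)
    (fun x => ⟨⟨_, x, rfl⟩, rfl⟩) (by
      rintro ⟨_, x, rfl⟩ hx
      refine hψ (MulEquiv.ext fun v => SemidirectProduct.inl_injective (φ := ψ) ?_)
      have := mem_centralizer_iff.1 hx _ ⟨v, rfl⟩
      simp only [MonoidHom.comp_apply, coe_subtype, SemidirectProduct.rightHom_inr, map_one,
        MulAut.one_apply]
      rw [SemidirectProduct.inl_aut, ← this, map_inv, mul_inv_cancel_right]) ⟨_, a, rfl⟩ (by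
      refine le_of_eq_of_le ((H24.quadratic_iff hPc (hH ⟨a, rfl⟩)).2 ?_) bot_le
      rintro _ ⟨v, rfl⟩
      have e1 : ⁅(SemidirectProduct.inl v : V ⋊[ψ] X), (SemidirectProduct.inr a : V ⋊[ψ] X)⁆ =
          SemidirectProduct.inl (v * ψ a v⁻¹) := by
        rw [map_mul, SemidirectProduct.inl_aut, map_inv, map_inv, commutatorElement_def]
        group
      rw [e1]
      conv_lhs => rw [← ha v, SemidirectProduct.inl_aut, map_inv SemidirectProduct.inr a,
        inv_mul_cancel_right])
    (by simpa using hna)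
  refine not_nq_sl (F := ZMod p) ?_ ?_
  · rw [Nat.card_zmod]
    exact (Fact.out : p.Prime).odd_of_ne_two hp
  · have h1 : NQ H := hX.of_surjective _ SemidirectProduct.inr.rangeRestrict_surjective
    exact ((h1.of_injective _ (inclusion_injective hK)).of_surjective _
      (QuotientGroup.mk'_surjective _)).of_surjective e.toMonoidHom e.surjective

theorem noQuad_eq_defs : True := by
  have := @NQ.eq_1.{0}
  have := @NQ.eq_def.{0}
  trivial

end H92
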