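import Mathlib
import Cfsg.Agent.Base
import Cfsg.Agent.Lib.Misc92.RealLift
import Cfsg.Agent.Lib.H5.SylNum
import Cfsg.Agent.Lib.Perm75.Schur
import Cfsg.Agent.Lib.Perm.PrimeDegree
import Cfsg.Agent.Lib.Core.Fitting
import Cfsg.Agent.S0205
import Cfsg.Agent.S0215

/-! Groups in which real elements of odd order and a cyclic subgroup have index prime to the number of
Sylow 2-subgroups are solvable. -/

set_option autoImplicit false

namespace H92.RC

open Subgroup Cfsg H80 MulAction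
open scoped Pointwise

variable {G : Type*} [Group G]

/-- No real element of odd order other than `1` normalizes a Sylow 2-subgroup. -/
def NR (G : Type*) [Group G] : Prop :=
  ∀ x : G, Odd (orderOf x) → IsConj x x⁻¹ → ∀ P : Sylow 2 G, x • P = P → x = 1

/-- `c` lies in `Ω₁(Z(P))`. -/
def Zc (P : Sylow 2 G) (c : G) : Prop := c * c = 1 ∧ c ∈ P ∧ ∀ u ∈ P, c * u = u * c

theorem realQ_eq_defs (P : Sylow 2 G) (c : G) :
    (NR G ↔ ∀ x : G, Odd (orderOf x) → IsConj x x⁻¹ → ∀ P : Sylow 2 G, x • P = P → x = 1) ∧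
    (Zc P c ↔ c * c = 1 ∧ c ∈ P ∧ ∀ u ∈ P, c * u = u * c) := ⟨Iff.rfl, Iff.rfl⟩

theorem mem_smul {g x : G} {P : Sylow 2 G} : x ∈ g • P ↔ g⁻¹ * x * g ∈ P := H4.mem_smul_sylow_iff

theorem smul_eq_of_mem {u : G} {P : Sylow 2 G} (h : u ∈ P) : u • P = P :=
  Sylow.smul_eq_iff_mem_normalizer.mpr (le_normalizer h)

theorem mem_of_smul_eq {u : G} {k : ℕ} (hu : u ^ 2 ^ k = 1) {P : Sylow 2 G} (h : u • P = P) : u ∈ P := by
  have h1 := (H9.isPGroup_zpowers_of_pow hu).inf_normalizer_sylow P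
  have h2 : u ∈ zpowers u ⊓ normalizer (P : Set G) :=
    ⟨mem_zpowers u, Sylow.smul_eq_iff_mem_normalizer.mp h⟩
  rw [h1] at h2
  exact h2.2

theorem mem_of_smul_eq' {u : G} (hu : u * u = 1) {P : Sylow 2 G} (h : u • P = P) : u ∈ P :=
  mem_of_smul_eq (k := 1) (by rw [pow_one, sq, hu]) h

theorem eq_one_of_odd_of_sq_mem {x : G} (hx : Odd (orderOf x)) {P : Subgroup G} (hP : IsPGroup 2 P)
    (h : x ^ 2 ∈ P) : x = 1 := by
  obtain ⟨k, hk⟩ := hP ⟨_, h⟩
  have h2 : x ^ 2 ^ (k + 1) = 1 := by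
    rw [pow_succ', pow_mul]; exact congrArg Subtype.val hk
  exact orderOf_eq_one_iff.mp (Nat.Coprime.eq_one_of_dvd
    ((Nat.coprime_two_right.mpr hx).pow_right _) (orderOf_dvd_of_pow_eq_one h2))

variable [Finite G]

theorem exists_smul_of_coprime {H : Subgroup G} (h : H.index.Coprime (Nat.card (Sylow 2 G)))
    (P Q : Sylow 2 G) : ∃ c ∈ H, c • P = Q := by
  obtain ⟨g, rfl⟩ := exists_smul_eq G P Q
  rw [P.card_eq_index_normalizer] at h
  obtain ⟨a, ha, k, hk, rfl⟩ := exists_mul_of_coprime_index h g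
  exact ⟨a, ha, by rw [mul_smul, Sylow.smul_eq_iff_mem_normalizer.mpr hk]⟩

theorem exists_sylow_mem {t : G} {j : ℕ} (h : t ^ 2 ^ j = 1) : ∃ P : Sylow 2 G, t ∈ P := by
  obtain ⟨P, hP⟩ := (H9.isPGroup_zpowers_of_pow h).exists_le_sylow
  exact ⟨P, hP (mem_zpowers t)⟩

theorem nr_of_coprime
    (h : ∀ x : G, Odd (orderOf x) → IsConj x x⁻¹ → cs⟦x⟧.Coprime (Nat.card (Sylow 2 G))) : NR G := by
  intro x hx hr P hP
  obtain ⟨t, ⟨j, hj⟩, ht⟩ := H77.exists_two_elt_inverts hr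
  obtain ⟨Q, hQ⟩ := exists_sylow_mem (t := t) (j := j) (by rw [← hj, pow_orderOf_eq_one])
  obtain ⟨c, hc, rfl⟩ := exists_smul_of_coprime (h x hx hr) P Q
  have h1 : x • c • P = c • P := by
    rw [← mul_smul, ← mem_Cx.mp hc, mul_smul, hP]
  have h2 : x * t * x⁻¹ ∈ c • P := by
    rw [← h1, mem_smul]; simpa [mul_assoc] using hQ
  have h3 : x * t * x⁻¹ * t⁻¹ = x ^ 2 := by
    have : t * x⁻¹ * t⁻¹ = x := by rw [← conj_inv, ht, inv_inv]
    calc x * t * x⁻¹ * t⁻¹ = x * (t * x⁻¹ * t⁻¹) := by group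
      _ = x ^ 2 := by rw [this, sq]
  exact eq_one_of_odd_of_sq_mem hx (c • P).isPGroup' (h3 ▸ mul_mem h2 (inv_mem hQ))

theorem NR.mul_mem (h : NR G) {s t : G} (hs : s * s = 1) (ht : t * t = 1) {P : Sylow 2 G}
    (e : s • P = t • P) : s * t ∈ P := by
  have h1 : (s * t) • P = P := by rw [mul_smul, ← e, ← mul_smul, hs, one_smul]
  obtain ⟨j, m, hm, hjm⟩ := Nat.exists_eq_two_pow_mul_odd (orderOf_pos (s * t)).ne'
  refine mem_of_smul_eq (k := j) (h _ ?_ (isConj_iff.mpr ⟨s, H9.conj_pow_of_inverts (H9.left_inverts hs ht) _⟩) P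
    (pow_mem (mem_stabilizer_iff.mpr h1) _)) h1
  refine hm.of_dvd_nat (orderOf_dvd_of_pow_eq_one ?_)
  rw [← pow_mul, ← hjm, pow_orderOf_eq_one]

omit [Finite G] in
theorem Zc.smul {P : Sylow 2 G} {c : G} (h : Zc P c) (g : G) : Zc (g • P) (g * c * g⁻¹) := by
  refine ⟨by rw [conj_mul, h.1]; simp, by rw [mem_smul]; simpa [mul_assoc] using h.2.1, fun u hu => ?_⟩
  have := h.2.2 _ (mem_smul.mp hu)
  calc g * c * g⁻¹ * u = g * (c * (g⁻¹ * u * g)) * g⁻¹ := by group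
    _ = _ := by rw [this]; group

omit [Finite G] in
theorem Zc.mul {P : Sylow 2 G} {c d : G} (h : Zc P c) (h' : Zc P d) : Zc P (c * d) := by
  refine ⟨?_, Subgroup.mul_mem _ h.2.1 h'.2.1, fun u hu => ?_⟩
  · calc c * d * (c * d) = c * (d * c) * d := by group
      _ = 1 := by rw [← h.2.2 d h'.2.1, ← mul_assoc, h.1, one_mul, h'.1]
  · rw [mul_assoc, h'.2.2 u hu, ← mul_assoc, h.2.2 u hu, mul_assoc]

theorem exists_zc {P : Sylow 2 G} (h : (P : Subgroup G) ≠ ⊥) : ∃ c, c ≠ 1 ∧ Zc P c := by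
  obtain ⟨c, hc, ho⟩ := H9.exists_involution_of_isPGroup (P.isPGroup'.to_inf_left)
    (H69.center_ne_bot P.isPGroup' h)
  exact ⟨c, H9.ne_one_of_orderOf_two ho, H9.mul_self_of_orderOf_two ho, hc.1,
    fun u hu => (hc.2 u hu).symm⟩

omit [Finite G] in
theorem Zc.line {α β γ δ : Sylow 2 G} {c : G} (h : Zc γ c) (hγ : (α : Subgroup G) ⊓ β ≤ γ)
    (hδ : (α : Subgroup G) ⊓ β ≤ δ) : (α : Subgroup G) ⊓ β ≤ (c • δ : Sylow 2 G) := by
  intro u hu
  change u ∈ c • δ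
  rw [mem_smul, mul_assoc, ← h.2.2 u (hγ hu), inv_mul_cancel_left]
  exact hδ hu

section two

variable (h2 : ∀ {a b c d : Sylow 2 G}, a ≠ b → c ≠ d → ∃ g : G, g • a = c ∧ g • b = d)
include h2

theorem inf_eq {α β γ δ : Sylow 2 G} (hab : α ≠ β) (hcd : γ ≠ δ) (hγ : (α : Subgroup G) ⊓ β ≤ γ)
    (hδ : (α : Subgroup G) ⊓ β ≤ δ) : (γ : Subgroup G) ⊓ δ = (α : Subgroup G) ⊓ β := by
  obtain ⟨g, rfl, rfl⟩ := h2 hab hcd
  refine (eq_of_le_of_card_ge (le_inf hγ hδ) (le_of_eq ?_)).symm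
  rw [Sylow.coe_subgroup_smul, Sylow.coe_subgroup_smul, ← Subgroup.smul_inf, H1.card_conj_smul]

theorem inj (h : NR G) {α β γ δ : Sylow 2 G} (hab : α ≠ β) (hγ : (α : Subgroup G) ⊓ β ≤ γ)
    (hδ : (α : Subgroup G) ⊓ β ≤ δ) {c d : G} (hc : Zc γ c) (hd : Zc δ d) (hc' : c ∉ α) (hd' : d ∉ α)
    (e : c • α = d • α) : γ = δ ∧ c * d ∈ α := by
  have h1 := h.mul_mem hc.1 hd.1 e
  have h3 : c * d ∈ c • α := h.mul_mem hc.1 hd.1 (by
    rw [← mul_smul, hc.1, e, ← mul_smul, hd.1])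
  have h4 : α ≠ c • α := fun e => hc' (mem_of_smul_eq' hc.1 e.symm)
  have h5 : c * d ∈ (α : Subgroup G) ⊓ β := by
    rw [← inf_eq h2 hab h4 inf_le_left (hc.line hγ inf_le_left)]
    exact ⟨h1, h3⟩
  refine ⟨?_, h1⟩
  by_contra hne
  have h6 : d ∈ (γ : Subgroup G) ⊓ δ := by
    refine ⟨?_, hd.2.1⟩
    have := Subgroup.mul_mem _ hc.2.1 (hγ h5)
    rwa [← mul_assoc, hc.1, one_mul] at this
  rw [inf_eq h2 hab hne hγ hδ] at h6
  exact hd' h6.1

variable (hf : ∀ g : G, (∀ P : Sylow 2 G, g • P = P) → g = 1) (hne : ∀ P : Sylow 2 G, (P : Subgroup G) ≠ ⊥)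
include hf hne

theorem exists_zc_not_mem {α γ : Sylow 2 G} (h : γ ≠ α) : ∃ c, Zc γ c ∧ c ∉ α := by
  by_contra hn
  push Not at hn
  obtain ⟨c, hc1, hc⟩ := exists_zc (hne γ)
  refine hc1 (hf c fun δ => smul_eq_of_mem ?_)
  by_cases e : γ = δ
  · exact e ▸ hc.2.1
  obtain ⟨g, hg, rfl⟩ := h2 h e
  have := hc.smul g⁻¹
  rw [inv_smul_eq_iff.mpr hg.symm, inv_inv] at this
  exact mem_smul.mpr (hn _ this)

theorem exists_choice (h : NR G) {α β : Sylow 2 G} (hab : α ≠ β) :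
    ∃ c : Sylow 2 G → G, (∀ γ, γ ≠ α → Zc γ (c γ) ∧ c γ ∉ α) ∧
      ∀ ε : Sylow 2 G, ε ≠ α → (α : Subgroup G) ⊓ β ≤ ε →
        ∃ γ : Sylow 2 G, γ ≠ α ∧ (α : Subgroup G) ⊓ β ≤ γ ∧ c γ • α = ε := by
  have : ∀ γ : Sylow 2 G, ∃ c, γ ≠ α → Zc γ c ∧ c ∉ α := fun γ => by
    by_cases e : γ = α
    · exact ⟨1, fun h => absurd e h⟩
    · obtain ⟨c, hc⟩ := exists_zc_not_mem h2 hf hne e
      exact ⟨c, fun _ => hc⟩
  choose c hc using this
  refine ⟨c, hc, fun ε h1 h3 => ?_⟩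
  let F : {γ : Sylow 2 G // γ ≠ α ∧ (α : Subgroup G) ⊓ β ≤ γ} →
      {γ : Sylow 2 G // γ ≠ α ∧ (α : Subgroup G) ⊓ β ≤ γ} := fun γ =>
    ⟨c γ • α, fun e => (hc γ γ.2.1).2 (mem_of_smul_eq' (hc γ γ.2.1).1.1 e),
      (hc γ γ.2.1).1.line γ.2.2 inf_le_left⟩
  have hF : Function.Injective F := fun γ δ e => Subtype.ext
    (inj h2 h hab γ.2.2 δ.2.2 (hc γ γ.2.1).1 (hc δ δ.2.1).1 (hc γ γ.2.1).2 (hc δ δ.2.1).2
      (congrArg Subtype.val e)).1
  obtain ⟨γ, hγ⟩ := Finite.injective_iff_surjective.mp hF ⟨ε, h1, h3⟩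
  exact ⟨γ, γ.2.1, γ.2.2, congrArg Subtype.val hγ⟩

theorem zc_eq_one (h : NR G) {α β : Sylow 2 G} (hab : α ≠ β) {a : G} (ha : Zc α a) (hb : a ∈ β) :
    a = 1 := by
  obtain ⟨c, hc, hs⟩ := exists_choice h2 hf hne h hab
  obtain ⟨γ, h1, h3, h4⟩ := hs β hab.symm inf_le_right
  have h5 := ha.smul (c γ)
  rw [h4, (hc γ h1).1.2.2 a (h3 ⟨ha.2.1, hb⟩), mul_inv_cancel_right] at h5
  refine hf a fun δ => ?_
  by_cases hδ : (α : Subgroup G) ⊓ β ≤ δ
  · exact smul_eq_of_mem (hδ ⟨ha.2.1, hb⟩)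
  have h6 : α ≠ δ := by rintro rfl; exact hδ inf_le_left
  have h7 : β ≠ δ := by rintro rfl; exact hδ inf_le_right
  by_contra h8
  have e1 := inf_eq h2 h6 h8 (ha.line inf_le_left inf_le_right) inf_le_right
  have e2 := inf_eq h2 h7 h8 (h5.line inf_le_left inf_le_right) inf_le_right
  have e3 := inf_eq h2 h6 hab inf_le_left (by rw [← e1, e2]; exact inf_le_left)
  exact hδ (by rw [e3]; exact inf_le_right)

theorem zc_unique (h : NR G) {α γ : Sylow 2 G} (hne' : γ ≠ α) {a b : G} (ha : Zc γ a) (hb : Zc γ b)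
    (ha1 : a ≠ 1) (hb1 : b ≠ 1) : a = b := by
  obtain ⟨c, hc, hs⟩ := exists_choice h2 hf hne h hne'.symm
  have key : ∀ a, Zc γ a → a ≠ 1 → a = c γ := by
    intro a ha ha1
    have h1 : a ∉ α := fun e => ha1 (zc_eq_one h2 hf hne h hne' ha e)
    obtain ⟨δ, h3, h4, h5⟩ := hs (a • α) (fun e => h1 (mem_of_smul_eq' ha.1 e))
      (ha.line (α := α) (β := γ) inf_le_right inf_le_left)
    obtain ⟨rfl, h6⟩ := inj h2 h hne'.symm inf_le_right h4 ha (hc δ h3).1 h1 (hc δ h3).2 h5.symm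
    have h7 := zc_eq_one h2 hf hne h hne' (ha.mul (hc γ h3).1) h6
    rw [eq_inv_of_mul_eq_one_left h7, eq_comm, ← mul_eq_one_iff_eq_inv, (hc γ h3).1.1]
  rw [key a ha ha1, key b hb hb1]

theorem false_of_simple [IsSimpleGroup G] (h : NR G) {α β : Sylow 2 G} (hab : α ≠ β) : False := by
  obtain ⟨z, hz1, hz⟩ := exists_zc (hne α)
  have ho := H9.orderOf_eq_two_of_mul_self hz1 hz.1
  obtain ⟨N, hN, hodd, hc⟩ := Cfsg.Agent.S0215.result α z ho hz.2.1 (fun g hg => by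
    have h1 : g * z * g⁻¹ ≠ 1 := by simpa using hz1
    have h3 : g • α = α := by
      by_contra e
      exact h1 (zc_eq_one h2 hf hne h e (hz.smul g) hg)
    have h4 := hz.smul g
    rw [h3] at h4
    exact zc_unique h2 hf hne h hab h4 hz h1 hz1)
  rcases hN.eq_bot_or_eq_top with rfl | rfl
  · refine hz1 (zc_eq_one h2 hf hne h hab hz ?_)
    obtain ⟨g, rfl⟩ := exists_smul_eq G α β
    have := mem_bot.mp (hc g)
    rw [mem_smul, show g⁻¹ * z * g = g⁻¹ * (z * g * z⁻¹ * g⁻¹) * g * z by group, this]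
    simpa using hz.2.1
  · exact (H9.odd_card_iff_forall_orderOf_ne_two ⊤).mp hodd z (mem_top z) ho

end two

theorem solvable_of_normal_sylow (T : Sylow 2 G) (hT : (T : Subgroup G).Normal) : Group.IsSolvable G := by
  have : Group.IsNilpotent T := T.isPGroup'.isNilpotent
  exact H1.isSolvable_of_normal_of_quotient (T : Subgroup G) inferInstance (Cfsg.Agent.S0205.result
    (Nat.odd_iff.mpr (Nat.two_dvd_ne_zero.mp T.not_dvd_index)))

theorem solvable_of_simple [IsSimpleGroup G] (h : NR G) {C : Subgroup G} (hC : IsCyclic C)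
    (hi : C.index.Coprime (Nat.card (Sylow 2 G))) : Group.IsSolvable G := by
  by_contra hs
  obtain ⟨α⟩ : Nonempty (Sylow 2 G) := inferInstance
  have hn : ∀ P : Sylow 2 G, ¬ (P : Subgroup G).Normal := fun P e => hs (solvable_of_normal_sylow P e)
  have hne : ∀ P : Sylow 2 G, (P : Subgroup G) ≠ ⊥ := fun P e => hn P (e ▸ inferInstance)
  have hcore : (normalizer (α : Set G)).normalCore = ⊥ := by
    refine (Subgroup.Normal.eq_bot_or_eq_top inferInstance).resolve_right fun e => hn α ?_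
    exact normalizer_eq_top_iff.mp (top_le_iff.mp (e ▸ normalCore_le _))
  have hf : ∀ g : G, (∀ P : Sylow 2 G, g • P = P) → g = 1 := fun g hg => by
    rw [← mem_bot, ← hcore]
    intro b
    apply Sylow.smul_eq_iff_mem_normalizer.mp
    rw [mul_smul, mul_smul, hg, smul_inv_smul]
  have : FaithfulSMul G (Sylow 2 G) := ⟨fun {a b} hab => by
    have := hf (b⁻¹ * a) fun P => by rw [mul_smul, hab, inv_smul_smul]
    rwa [inv_mul_eq_one, eq_comm] at this⟩
  obtain ⟨β, hab⟩ : ∃ β, α ≠ β := by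
    by_contra e
    push Not at e
    refine hn α (normalizer_eq_top_iff.mp (eq_top_iff.mpr fun g _ => ?_))
    exact Sylow.smul_eq_iff_mem_normalizer.mp (e _).symm
  have : Nontrivial (Sylow 2 G) := ⟨⟨α, β, hab⟩⟩
  have hcomm : ∀ a ∈ C, ∀ b ∈ C, a * b = b * a := fun a ha b hb =>
    congrArg Subtype.val (hC.isMulCommutative.is_comm.comm ⟨a, ha⟩ ⟨b, hb⟩)
  have htr := exists_smul_of_coprime hi
  -- `C` meets every proper overgroup of `N(α)` trivially
  have hCP : ∀ P : Subgroup G, stabilizer G α ≤ P → P ≠ ⊤ → ∀ c ∈ C, c ∈ P → c = 1 := by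
    intro P hP hP' c hc hcP
    have h1 : P.normalCore = ⊥ := (Subgroup.Normal.eq_bot_or_eq_top inferInstance).resolve_right
      fun e => hP' (top_le_iff.mp (e ▸ normalCore_le _))
    rw [← mem_bot, ← h1]
    intro b
    obtain ⟨d, hd, e⟩ := htr α (b⁻¹ • α)
    have h3 : b * d ∈ P := hP (by rw [mem_stabilizer_iff, mul_smul, e, smul_inv_smul])
    have := P.mul_mem (P.mul_mem h3 hcP) (P.inv_mem h3)
    rwa [mul_assoc b, hcomm d hd c hc, show b * (c * d) * (b * d)⁻¹ = b * c * b⁻¹ by group] at this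
  have hst : stabilizer G α ≠ ⊤ := by
    intro e
    obtain ⟨g, rfl⟩ := exists_smul_eq G α β
    exact hab (mem_stabilizer_iff.mp (e ▸ mem_top g)).symm
  have hprim : IsPreprimitive G (Sylow 2 G) := by
    rw [← isCoatom_stabilizer_iff_preprimitive G α]
    refine ⟨hst, fun P hP => ?_⟩
    by_contra hP'
    refine hP.not_ge fun g hg => ?_
    obtain ⟨d, hd, e⟩ := htr α (g • α)
    have h3 : g⁻¹ * d ∈ stabilizer G α := by rw [mem_stabilizer_iff, mul_smul, e, inv_smul_smul]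
    have h4 := hCP P hP.le hP' d hd (by simpa using P.mul_mem hg (hP.le h3))
    rw [h4, mul_one] at h3
    exact inv_mem_iff.mp h3
  have hb : Function.Bijective fun a : C => C.subtype a • α := by
    refine ⟨fun a b e => ?_, fun γ => ?_⟩
    · have := hCP _ le_rfl hst _ (b⁻¹ * a).2 (by
        rw [mem_stabilizer_iff, coe_mul, mul_smul, coe_inv, inv_smul_eq_iff]; exact e)
      rw [coe_mul, coe_inv, inv_mul_eq_one] at this
      exact Subtype.ext this.symm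
    · obtain ⟨d, hd, e⟩ := htr α γ
      exact ⟨⟨d, hd⟩, e⟩
  have hcard : Nat.card C = Nat.card (Sylow 2 G) := Nat.card_eq_of_bijective _ hb
  have h2 : IsMultiplyPretransitive G (Sylow 2 G) 2 := by
    by_cases hp : (Nat.card (Sylow 2 G)).Prime
    · have := Fact.mk hp
      obtain ⟨P⟩ : Nonempty (Sylow (Nat.card (Sylow 2 G)) G) := inferInstance
      obtain ⟨c, e, -, hc⟩ := H26.exists_frame_sylow (α := Sylow 2 G) rfl P
      exact (H26.affine_or_two_trans hc).resolve_left fun e' => hs (H26.isSolvable_of_affine e e')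
    · exact H75.two_trans_of_regular_cyclic C.subtype α hb hprim
        (hcard ▸ Finite.one_lt_card.ne') (hcard ▸ hp)
  exact false_of_simple (is_two_pretransitive_iff.mp h2) hf hne h hab

universe u

theorem propQ_aux (n : ℕ) : ∀ (G : Type u) [Group G] [Finite G], Nat.card G = n →
    (∀ x : G, Odd (orderOf x) → IsConj x x⁻¹ → cs⟦x⟧.Coprime (Nat.card (Sylow 2 G))) →
    ∀ C : Subgroup G, IsCyclic C → C.index.Coprime (Nat.card (Sylow 2 G)) → Group.IsSolvable G := by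
  induction n using Nat.strong_induction_on with
  | _ n ih =>
  intro G _ _ hn h C hC hi
  rcases subsingleton_or_nontrivial G with hG | hG
  · infer_instance
  by_cases hs : IsSimpleGroup G
  · exact solvable_of_simple (nr_of_coprime h) hC hi
  obtain ⟨N, hN, h1, h2⟩ : ∃ N : Subgroup G, N.Normal ∧ N ≠ ⊥ ∧ N ≠ ⊤ := by
    by_contra e
    push Not at e
    exact hs ⟨fun N hN => by by_cases h : N = ⊥; exacts [Or.inl h, Or.inr (e N hN h)]⟩
  refine H1.isSolvable_of_normal_of_quotient N ?_ ?_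
  · refine ih _ (hn ▸ H1.card_lt_of_ne_top h2) N rfl (fun x hx hr => ?_) (C.subgroupOf N) ?_ ?_
    · exact ((h x (by rwa [orderOf_coe]) (by simpa using N.subtype.map_isConj hr)).coprime_dvd_left
        (cs_subtype_dvd N x)).coprime_dvd_right (H5.card_sylow_normal_dvd N)
    · exact isCyclic_of_injective (N.subtype.subgroupComap C) fun _ _ hxy =>
        Subtype.ext (Subtype.ext (congrArg (fun y : C => (y : G)) hxy))
    · exact (hi.coprime_dvd_left (relIndex_dvd_index_of_isSubnormal hN.isSubnormal C)).coprime_dvd_right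
        (H5.card_sylow_normal_dvd N)
  · have hs := QuotientGroup.mk'_surjective N
    refine ih _ (hn ▸ H1.card_quotient_lt h1) (G ⧸ N) rfl (fun y hy hr => ?_) (C.map (QuotientGroup.mk' N)) ?_ ?_
    · obtain ⟨x, rfl, hx, hr'⟩ := lift _ hs hy hr
      exact ((h x hx hr').coprime_dvd_left (cs_map_dvd hs x)).coprime_dvd_right
        (H5.card_sylow_dvd_of_surjective hs)
    · exact isCyclic_of_surjective _ ((QuotientGroup.mk' N).subgroupMap_surjective C)
    · exact (hi.coprime_dvd_left (index_map_dvd C hs)).coprime_dvd_right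
        (H5.card_sylow_dvd_of_surjective hs)

theorem propQ (h : ∀ x : G, Odd (orderOf x) → IsConj x x⁻¹ → cs⟦x⟧.Coprime (Nat.card (Sylow 2 G)))
    {C : Subgroup G} (hC : IsCyclic C) (hi : C.index.Coprime (Nat.card (Sylow 2 G))) :
    Group.IsSolvable G := propQ_aux _ G rfl h C hC hi

end H92.RC
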