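import Mathlib
import Cfsg.Agent.Base
import Cfsg.Agent.Lib.Misc92.RealQ
import Cfsg.Agent.Lib.Core.CoprimeNorm
import Cfsg.Agent.S0200

/-! A linear group over `F₂` whose vector stabilizers have odd index, whose real elements of odd order act
without fixed vectors and have class size prime to the number of Sylow 2-subgroups, is solvable. -/

set_option autoImplicit false

namespace H92.RC

open Subgroup Cfsg H80 MulAction
open scoped Pointwise

theorem eq_one_of_odd_of_sq {G : Type*} [Group G] {x : G} (hx : Odd (orderOf x)) (h : x * x = 1) : x = 1 :=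
  eq_one_of_odd_of_sq_mem hx (P := ⊥) IsPGroup.of_bot (by rw [sq, h]; exact one_mem _)

theorem mul_conj_mem {E : Type*} [Group E] [Finite E] {x t : E} (ht : orderOf t = 2) (hx : Odd (orderOf x))
    (hx1 : x ≠ 1) (hall : ∀ g : E, g * x * g⁻¹ = x ∨ g * x * g⁻¹ = x⁻¹) (htx : t * x * t⁻¹ = x⁻¹)
    (hmax : ∀ y : E, Odd (orderOf y) → y * x = x * y → t * y * t⁻¹ = y⁻¹ → y ∈ zpowers x)
    (hO : pCore 2 E = ⊥) (h : E) (hh : h * x = x * h) : t * (h * t * h⁻¹) ∈ zpowers x := by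
  have ht2 := H9.mul_self_of_orderOf_two ht
  have hZ : (zpowers x).Normal := ⟨fun u hu g => by
    obtain ⟨k, rfl⟩ := mem_zpowers_iff.mp hu
    rw [← conj_zpow]
    rcases hall g with e | e <;> rw [e]
    · exact hu
    · exact zpow_mem (inv_mem (mem_zpowers x)) k⟩
  have hC : (Cx⟦x⟧).Normal := ⟨fun u hu g => by
    rw [conj_mem_Cx_conj (g := g⁻¹) |>.symm, show g⁻¹ * (g * u * g⁻¹) * g⁻¹⁻¹ = u by group]
    rcases hall g⁻¹ with e | e <;> rw [e]
    · exact hu
    · rwa [Cx_inv]⟩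
  set π := QuotientGroup.mk' (zpowers x) with hπ
  have hker : ∀ u, π u = 1 ↔ u ∈ zpowers x := fun u => QuotientGroup.eq_one_iff u
  have hodd : ∀ u ∈ zpowers x, Odd (orderOf u) := fun u hu => hx.of_dvd_nat (orderOf_dvd_of_mem_zpowers hu)
  have ht' : orderOf (π t) = 2 := H9.orderOf_eq_two_of_mul_self
    (fun e => by have := hodd t ((hker t).mp e); rw [ht] at this; exact absurd this (by decide))
    (by rw [← map_mul, ht2, map_one])
  obtain ⟨N, hN, hN2, htN⟩ : ∃ N : Subgroup (E ⧸ zpowers x), N.Normal ∧ IsPGroup 2 N ∧ π t ∈ N := by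
    by_contra e
    push Not at e
    obtain ⟨y, hy1, hy2, hy3⟩ := Cfsg.Agent.S0200.result (π t) ht' e
    obtain ⟨y, rfl⟩ := QuotientGroup.mk'_surjective _ y
    rw [← hπ] at hy1 hy2 hy3
    have h1 : Odd (orderOf y) := by
      have h2 := hodd _ ((hker (y ^ orderOf (π y))).mp (by rw [map_pow, pow_orderOf_eq_one]))
      refine (hy2.mul h2).of_dvd_nat (orderOf_dvd_of_pow_eq_one ?_)
      rw [pow_mul, pow_orderOf_eq_one]
    have h2 : y * x = x * y := by
      rcases hall y with e | e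
      · exact mul_inv_eq_iff_eq_mul.mp e
      · have := H77.pow_inverts_of_odd e h1
        rw [pow_orderOf_eq_one, one_mul, inv_one, mul_one] at this
        exact absurd (eq_one_of_odd_of_sq hx (mul_eq_one_iff_eq_inv.mpr this)) hx1
    have h3 : t * y * t⁻¹ * y ∈ zpowers x := (hker _).mp (by
      rw [map_mul, map_mul, map_mul, map_inv, hy3, inv_mul_cancel])
    obtain ⟨k, hk⟩ := mem_zpowers_iff.mp h3
    have h4 := H9.conj_zpow_of_inverts htx k
    have h5 : y * x ^ k = x ^ k * y := (Commute.zpow_right h2 k)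
    have h6 : x ^ k = 1 := by
      refine eq_one_of_odd_of_sq (hodd _ (zpow_mem_zpowers x k)) ?_
      have h7 : t * x ^ k * t⁻¹ = y * (t * y * t⁻¹) := by
        rw [hk]
        calc t * (t * y * t⁻¹ * y) * t⁻¹ = (t * t) * y * (t * t)⁻¹ * (t * y * t⁻¹) := by group
          _ = _ := by rw [ht2]; group
      have h8 : y * (t * y * t⁻¹) = x ^ k := by
        calc y * (t * y * t⁻¹) = y * (t * y * t⁻¹ * y) * y⁻¹ := by group
          _ = _ := by rw [← hk, h5]; group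
      rw [h4, h8] at h7
      exact mul_eq_one_iff_eq_inv.mpr h7.symm
    rw [h6] at hk
    exact hy1 ((hker y).mpr (hmax y h1 h2 (eq_inv_of_mul_eq_one_left hk.symm)))
  set M := N.comap π ⊓ Cx⟦x⟧ with hM
  have : Group.IsNilpotent N := hN2.isNilpotent
  have hnil : Group.IsNilpotent M := Subgroup.isNilpotent_of_ker_le_center
    ((π.comp M.subtype).codRestrict N fun u => u.2.1) fun u hu => by
      have h1 : (u : E) ∈ zpowers x := (hker _).mp (congrArg Subtype.val hu)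
      obtain ⟨k, hk⟩ := mem_zpowers_iff.mp h1
      refine mem_center_iff.mpr fun g => Subtype.ext ?_
      rw [coe_mul, coe_mul, ← hk]
      exact (Commute.zpow_right (mem_Cx.mp g.2.2) k)
  have hc : t * (h * t * h⁻¹) ∈ M := by
    refine ⟨N.mul_mem (y := π (h * t * h⁻¹)) htN (by rw [map_mul, map_mul, map_inv]; exact hN.conj_mem _ htN _), ?_⟩
    change _ ∈ Cx⟦x⟧
    rw [mem_Cx_iff_conj]
    have h1 : h⁻¹ * x * h = x := by rw [mul_assoc, ← hh, inv_mul_cancel_left]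
    have h2 : h * x⁻¹ * h⁻¹ = x⁻¹ := by rw [← conj_inv, hh, mul_inv_cancel_right]
    calc t * (h * t * h⁻¹) * x * (t * (h * t * h⁻¹))⁻¹
        = t * (h * (t * (h⁻¹ * x * h) * t⁻¹) * h⁻¹) * t⁻¹ := by group
      _ = x := by rw [h1, htx, h2, ← conj_inv, htx, inv_inv]
  have hs : (h * t * h⁻¹) * (h * t * h⁻¹) = 1 := by rw [conj_mul, ht2]; simp
  have hi := H9.left_inverts ht2 hs
  generalize t * (h * t * h⁻¹) = c at hc hi
  refine hmax c ?_ (mem_Cx.mp hc.2) hi
  obtain ⟨j, m, hm, hjm⟩ := Nat.exists_eq_two_pow_mul_odd (orderOf_pos c).ne'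
  have h1 : zpowers (c ^ m) ≤ pCore 2 E := H1.le_pCore_of_le_fitting
    (H9.isPGroup_zpowers_of_pow (a := j) (by rw [← pow_mul, mul_comm, ← hjm, pow_orderOf_eq_one]))
    ((zpowers_le.mpr (pow_mem hc m)).trans (H1.le_fitting hnil))
  rw [hO, le_bot_iff, zpowers_eq_bot] at h1
  exact hm.of_dvd_nat (orderOf_dvd_of_pow_eq_one h1)

variable {X W : Type*} [Group X] [Finite X] [CommGroup W] [Finite W] (φ : X →* MulAut W)

omit [Finite X] [Finite W] in
theorem app_mul (a b : X) (w : W) : φ (a * b) w = φ a (φ b w) := by rw [map_mul]; rfl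

omit [Finite X] [Finite W] in
theorem app_inv (a : X) (w : W) : φ a⁻¹ (φ a w) = w := by rw [← app_mul, inv_mul_cancel, map_one]; rfl

omit [Finite X] [Finite W] in
theorem app_inv' (a : X) (w : W) : φ a (φ a⁻¹ w) = w := by rw [← app_mul, mul_inv_cancel, map_one]; rfl

omit [Finite W] in
theorem inv_of_zpowers {x : X} {V : Subgroup W} (hV : ∀ w ∈ V, φ x w ∈ V) {u : X} (hu : u ∈ zpowers x) :
    ∀ w ∈ V, φ u w ∈ V := by
  obtain ⟨n, rfl⟩ := (mem_powers_iff_mem_zpowers.mpr hu : u ∈ Submonoid.powers x)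
  induction n with
  | zero => intro w hw; simpa using hw
  | succ n ih =>
    intro w hw
    change φ (x ^ (n + 1)) w ∈ V
    rw [pow_succ', app_mul]
    exact hV _ (ih (pow_mem (mem_zpowers x) n) w hw)

theorem card_ne_one (V : Subgroup W) : Nat.card {w : W // w ∈ V ∧ w ≠ 1} = Nat.card V - 1 := by
  have : {w : W | w ∈ V ∧ w ≠ 1} = (V : Set W) \ {1} := by ext; simp
  change Nat.card ({w : W | w ∈ V ∧ w ≠ 1} : Set W) = _
  rw [this, Nat.card_coe_set_eq, Set.ncard_diff_singleton_of_mem V.one_mem]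
  rfl

theorem card_of_inv (hW : ∀ w : W, w * w = 1) {x t : X} (ht : t * t = 1) (hx : Odd (orderOf x)) (hx1 : x ≠ 1)
    (htx : t * x * t⁻¹ = x⁻¹) (hfree : ∀ u ∈ zpowers x, ∀ w ≠ 1, φ u w = w → u = 1)
    (hcov : ∀ w ≠ 1, ∃ u ∈ zpowers x, φ t (φ u⁻¹ w) = φ u⁻¹ w)
    {V : Subgroup W} (hV : ∀ w ∈ V, φ x w ∈ V) (hne : V ≠ ⊥) : Nat.card V = (orderOf x - 1) ^ 2 := by
  have hinv : ∀ u ∈ zpowers x, t * u = u⁻¹ * t := fun u hu => by
    obtain ⟨k, rfl⟩ := mem_zpowers_iff.mp hu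
    rw [← H9.conj_zpow_of_inverts htx k]; group
  have hinj : ∀ u ∈ zpowers x, ∀ f ≠ 1, φ t f = f → φ t (φ u f) = φ u f → u = 1 := by
    intro u hu f hf h1 h2
    rw [← app_mul, hinv u hu, app_mul, h1] at h2
    refine eq_one_of_odd_of_sq (hx.of_dvd_nat (orderOf_dvd_of_mem_zpowers hu))
      (hfree _ (mul_mem hu hu) f hf ?_)
    rw [app_mul, ← h2, app_inv']
  set F : Subgroup W := MonoidHom.eqLocus (φ t).toMonoidHom (MonoidHom.id W) with hF
  have memF : ∀ w, w ∈ F ↔ φ t w = w := fun w => Iff.rfl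
  set A := V ⊓ F with hA
  have hVt : ∀ w ∈ V, φ t w ∈ V := by
    intro w hw
    by_cases e : w = 1
    · simp [e]
    obtain ⟨u, hu, h1⟩ := hcov w e
    have h2 := inv_of_zpowers φ hV (inv_mem hu) w hw
    rw [← app_inv' φ u w, ← app_mul, hinv u hu, app_mul, h1]
    exact inv_of_zpowers φ hV (inv_mem hu) _ h2
  have h1 : Nat.card V - 1 = orderOf x * (Nat.card A - 1) := by
    rw [← card_ne_one, ← card_ne_one, ← Nat.card_zpowers, ← Nat.card_prod]
    symm
    refine Nat.card_eq_of_bijective (fun p => ⟨φ p.1.1 p.2.1, inv_of_zpowers φ hV p.1.2 _ p.2.2.1.1,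
      by simpa using p.2.2.2⟩) ⟨?_, ?_⟩
    · rintro ⟨⟨u, hu⟩, f, hf, hf1⟩ ⟨⟨u', hu'⟩, f', hf', hf1'⟩ e
      have e : φ u f = φ u' f' := congrArg Subtype.val e
      have e' : φ (u'⁻¹ * u) f = f' := by rw [app_mul, e, app_inv]
      have h2 := hinj _ (mul_mem (inv_mem hu') hu) f hf1 hf.2 (by rw [e']; exact hf'.2)
      rw [h2, map_one] at e'
      obtain rfl : u' = u := inv_mul_eq_one.mp h2
      obtain rfl : f = f' := e'
      rfl
    · rintro ⟨w, hw, hw1⟩
      obtain ⟨u, hu, h2⟩ := hcov w hw1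
      exact ⟨⟨⟨u, hu⟩, φ u⁻¹ w, ⟨inv_of_zpowers φ hV (inv_mem hu) w hw, h2⟩, by simpa using hw1⟩,
        Subtype.ext (app_inv' φ u w)⟩
  have h2 : Nat.card V ≤ Nat.card A * Nat.card A := by
    let δ : W →* W := MonoidHom.id W * (φ t).toMonoidHom
    have hδ : ∀ w, δ w = w * φ t w := fun w => rfl
    rw [← H1.card_map_mul_card_inf_ker δ V]
    refine Nat.mul_le_mul (card_le_of_le ?_) (card_le_of_le ?_)
    · rintro _ ⟨w, hw, rfl⟩
      refine ⟨V.mul_mem hw (hVt w hw), (memF _).mpr ?_⟩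
      rw [hδ, map_mul, ← app_mul, ht, map_one, mul_comm]; rfl
    · rintro w ⟨h3, hw⟩
      refine ⟨hw, (memF _).mpr ?_⟩
      have h3 : w * φ t w = 1 := h3
      rw [← hW w] at h3
      exact mul_left_cancel h3
  have h3 : Nat.card A * Nat.card A ≤ Nat.card V := by
    have h4 := H1.card_sup_mul_card_inf_of_normal A (A.map (φ x).toMonoidHom)
    have h5 : A ⊓ A.map (φ x).toMonoidHom = ⊥ := by
      rw [eq_bot_iff]
      rintro _ ⟨h6, f, hf, rfl⟩
      by_contra e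
      exact hx1 (hinj x (mem_zpowers x) f (by rintro rfl; simp at e) hf.2 h6.2)
    rw [h5, card_bot, mul_one, card_map_of_injective (φ x).injective] at h4
    rw [← h4]
    refine card_le_of_le (sup_le inf_le_left ?_)
    rintro _ ⟨f, hf, rfl⟩
    exact hV f hf.1
  have h4 : 1 < Nat.card V := (one_lt_card_iff_ne_bot V).mpr hne
  have h5 := le_antisymm h2 h3
  generalize Nat.card V = n at *
  generalize Nat.card A = s at *
  generalize orderOf x = m at *
  subst h5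
  obtain ⟨s, rfl⟩ : ∃ k, s = k + 2 := ⟨s - 2, by
    rcases s with _ | _ | s <;> simp at h4 ⊢⟩
  have h6 : (s + 3) * (s + 1) = m * (s + 1) := by
    rw [show s + 2 - 1 = s + 1 by omega] at h1
    rw [← h1]; apply Nat.eq_sub_of_add_eq; ring
  obtain rfl := Nat.eq_of_mul_eq_mul_right (Nat.succ_pos s) h6
  rw [show s + 3 - 1 = s + 2 by omega, sq]

omit [Finite X] [Finite W] in
theorem comm_of_irred {x : X} (hirr : ∀ V : Subgroup W, (∀ w ∈ V, φ x w ∈ V) → V ≠ ⊥ → V = ⊤)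
    {w₀ : W} (hw : w₀ ≠ 1) {a b : X} (ha : a * x = x * a) (hb : b * x = x * b) :
    φ (a * b) w₀ = φ (b * a) w₀ := by
  let R : (W →* W) → Prop := fun ρ => ∀ σ : W →* W, (∀ w, σ (φ x w) = φ x (σ w)) → ∀ w, ρ (σ w) = σ (ρ w)
  have hRx : ∀ ρ, R ρ → ∀ w, ρ (φ x w) = φ x (ρ w) := fun ρ h => h (φ x).toMonoidHom fun _ => rfl
  let S : Subgroup W :=
    { carrier := {u | ∃ ρ, R ρ ∧ ρ w₀ = u}
      one_mem' := ⟨1, fun σ _ w => by simp, rfl⟩
      mul_mem' := by
        rintro _ _ ⟨ρ, h, rfl⟩ ⟨ρ', h', rfl⟩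
        exact ⟨ρ * ρ', fun σ hσ w => by simp [h σ hσ, h' σ hσ], rfl⟩
      inv_mem' := by
        rintro _ ⟨ρ, h, rfl⟩
        exact ⟨ρ⁻¹, fun σ hσ w => by simp [h σ hσ], rfl⟩ }
  have hS : S = ⊤ := hirr S (by
    rintro _ ⟨ρ, h, rfl⟩
    exact ⟨(φ x).toMonoidHom.comp ρ, fun σ hσ w => by simp [h σ hσ, hσ], rfl⟩) (by
      intro e
      have : w₀ ∈ S := ⟨MonoidHom.id W, fun σ _ w => rfl, rfl⟩
      rw [e] at this
      exact hw this)
  obtain ⟨ρ, h, e⟩ : φ a w₀ ∈ S := hS ▸ mem_top _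
  obtain ⟨ρ', h', e'⟩ : φ b w₀ ∈ S := hS ▸ mem_top _
  have h1 : ∀ w, ρ' (φ a w) = φ a (ρ' w) := h' (φ a).toMonoidHom fun w => by
    change φ a (φ x w) = φ x (φ a w)
    rw [← app_mul, ha, app_mul]
  have h2 : ∀ w, ρ (φ b w) = φ b (ρ w) := h (φ b).toMonoidHom fun w => by
    change φ b (φ x w) = φ x (φ b w)
    rw [← app_mul, hb, app_mul]
  rw [app_mul, app_mul, ← e', ← h1, ← e, ← h2, ← e', h ρ' (hRx ρ' h')]

theorem solvable_of_module [Nontrivial W] (hW : ∀ w : W, w * w = 1) (hφ : Function.Injective φ)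
    (ha : ∀ w : W, w ≠ 1 → ∃ P : Sylow 2 X, ∀ u ∈ P, φ u w = w)
    (hb : ∀ x : X, Odd (orderOf x) → IsConj x x⁻¹ → cs⟦x⟧.Coprime (Nat.card (Sylow 2 X)))
    (hc : ∀ x : X, Odd (orderOf x) → IsConj x x⁻¹ → ∀ w ≠ 1, φ x w = w → x = 1) :
    Group.IsSolvable X := by
  classical
  have hall : ∀ u : X, (∀ P : Sylow 2 X, u ∈ P) → u = 1 := fun u hu => hφ (by
    ext w
    by_cases e : w = 1
    · simp [e]
    · obtain ⟨P, hP⟩ := ha w e
      rw [hP u (hu P), map_one]; rfl)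
  obtain ⟨T⟩ : Nonempty (Sylow 2 X) := inferInstance
  by_cases hT : (T : Subgroup X) = ⊥
  · exact solvable_of_normal_sylow T (hT ▸ inferInstance)
  obtain ⟨t, htT, ht⟩ := H9.exists_involution_of_isPGroup T.isPGroup' hT
  have ht2 := H9.mul_self_of_orderOf_two ht
  obtain ⟨x₀, hx₀⟩ := Cfsg.Agent.S0200.result t ht fun N hN hN2 htN =>
    H9.ne_one_of_orderOf_two ht (hall t fun P => H1.pCore_le_sylow P (H1.le_pCore hN2 htN))
  obtain ⟨x, ⟨hx, htx⟩, hmax⟩ := Set.exists_max_image {y : X | Odd (orderOf y) ∧ t * y * t⁻¹ = y⁻¹}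
    orderOf (Set.toFinite _) ⟨x₀, hx₀.2⟩
  have hx1 : x ≠ 1 := by
    rintro rfl
    have := hmax x₀ hx₀.2
    rw [orderOf_one] at this
    exact hx₀.1 (orderOf_eq_one_iff.mp (le_antisymm this (orderOf_pos _)))
  have hfree : ∀ u : X, Odd (orderOf u) → t * u * t⁻¹ = u⁻¹ → ∀ w ≠ 1, φ u w = w → u = 1 :=
    fun u h1 h2 => hc u h1 (isConj_iff.mpr ⟨t, h2⟩)
  have hmax' : ∀ y : X, Odd (orderOf y) → y * x = x * y → t * y * t⁻¹ = y⁻¹ → y ∈ zpowers x := by
    intro y hy hyx hty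
    have hcm : Commute y x := hyx
    let A : Subgroup X :=
      { carrier := {u | ∃ i j : ℤ, u = y ^ i * x ^ j}
        one_mem' := ⟨0, 0, by simp⟩
        mul_mem' := by
          rintro _ _ ⟨i, j, rfl⟩ ⟨k, l, rfl⟩
          refine ⟨i + k, j + l, ?_⟩
          rw [zpow_add, zpow_add, mul_assoc, mul_assoc, ← mul_assoc (x ^ j), ← (hcm.zpow_zpow k j).eq, mul_assoc]
        inv_mem' := by
          rintro _ ⟨i, j, rfl⟩
          refine ⟨-i, -j, ?_⟩
          rw [(hcm.zpow_zpow (-i) (-j)).eq, mul_inv_rev, zpow_neg, zpow_neg] }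
    have hA : ∀ u ∈ A, Odd (orderOf u) ∧ t * u * t⁻¹ = u⁻¹ := by
      rintro _ ⟨i, j, rfl⟩
      refine ⟨(hy.mul hx).of_dvd_nat (((hcm.zpow_zpow i j).orderOf_mul_dvd_mul_orderOf).trans
        (mul_dvd_mul (orderOf_dvd_of_mem_zpowers (zpow_mem_zpowers _ _))
          (orderOf_dvd_of_mem_zpowers (zpow_mem_zpowers _ _)))), ?_⟩
      rw [← conj_mul, H9.conj_zpow_of_inverts hty, H9.conj_zpow_of_inverts htx, (hcm.zpow_zpow i j).eq,
        mul_inv_rev]
    have : IsMulCommutative A := ⟨⟨by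
      rintro ⟨_, i, j, rfl⟩ ⟨_, k, l, rfl⟩
      exact Subtype.ext (((Commute.refl y).zpow_zpow i k).mul_right (hcm.zpow_zpow i l) |>.mul_left
        ((hcm.symm.zpow_zpow j k).mul_right ((Commute.refl x).zpow_zpow j l)))⟩⟩
    have hcyc : IsCyclic A := H2.isCyclic_of_fpf_of_comm (φ.comp A.subtype) fun a ha1 v hv => by
      by_contra e
      exact ha1 (Subtype.ext (hfree a (hA a a.2).1 (hA a a.2).2 v e hv))
    obtain ⟨g, hg⟩ := hcyc.exists_generator
    have h1 : Nat.card A ≤ Nat.card (zpowers x) := by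
      rw [← orderOf_eq_card_of_forall_mem_zpowers hg, Nat.card_zpowers, ← orderOf_coe]
      exact hmax _ (hA g g.2)
    rw [eq_of_le_of_card_ge (zpowers_le.mpr (show x ∈ A from ⟨0, 1, by simp⟩)) h1]
    exact ⟨1, 0, by simp⟩
  have hxr : IsConj x x⁻¹ := isConj_iff.mpr ⟨t, htx⟩
  have htr := exists_smul_of_coprime (hb x hx hxr)
  let E : Subgroup X :=
    { carrier := {g | g * x * g⁻¹ = x ∨ g * x * g⁻¹ = x⁻¹}
      one_mem' := Or.inl (by simp)
      mul_mem' := by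
        intro a b h1 h2
        have e : a * b * x * (a * b)⁻¹ = a * (b * x * b⁻¹) * a⁻¹ := by group
        rcases h1 with h1 | h1 <;> rcases h2 with h2 | h2
        · left; rw [e, h2, h1]
        · right; rw [e, h2, ← conj_inv, h1]
        · right; rw [e, h2, h1]
        · left; rw [e, h2, ← conj_inv, h1, inv_inv]
      inv_mem' := by
        rintro a (h1 | h1)
        · left; conv_lhs => rw [← h1]
          group
        · right
          have h2 : x = a * x⁻¹ * a⁻¹ := by rw [← conj_inv, h1, inv_inv]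
          conv_lhs => rw [h2]
          group }
  have hCE : Cx⟦x⟧ ≤ E := fun h hh => Or.inl (mem_Cx_iff_conj.mp hh)
  have hO : pCore 2 E = ⊥ := by
    obtain ⟨Q, hQ⟩ := (H1.isPGroup_pCore.map E.subtype : IsPGroup 2 ((pCore 2 E).map E.subtype)).exists_le_sylow
    rw [eq_bot_iff]
    intro u hu
    refine mem_bot.mpr (Subtype.ext (hall u fun P => ?_))
    obtain ⟨c, hc, rfl⟩ := htr Q P
    exact mem_smul.mpr (hQ ⟨_, Subgroup.Normal.conj_mem' inferInstance u hu ⟨c, hCE hc⟩, rfl⟩)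
  have hcov : ∀ w ≠ 1, ∃ u ∈ zpowers x, φ t (φ u⁻¹ w) = φ u⁻¹ w := by
    intro w hw
    obtain ⟨P, hP⟩ := ha w hw
    obtain ⟨h, hh, rfl⟩ := htr T P
    have h1 := mul_conj_mem (E := E) (x := ⟨x, Or.inl (by simp)⟩) (t := ⟨t, Or.inr htx⟩)
      (by rw [← orderOf_coe]; exact ht) (by rw [← orderOf_coe]; exact hx) (fun e => hx1 (congrArg Subtype.val e))
      (fun g => g.2.imp Subtype.ext Subtype.ext) (Subtype.ext htx)
      (fun y h1 h2 h3 => by
        obtain ⟨k, hk⟩ := hmax' y (by rwa [orderOf_coe]) (congrArg Subtype.val h2) (congrArg Subtype.val h3)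
        exact ⟨k, Subtype.ext hk⟩) hO ⟨h, hCE hh⟩ (Subtype.ext (mem_Cx.mp hh))
    have h2 : t * (h * t * h⁻¹) ∈ zpowers x := by
      obtain ⟨k, hk⟩ := h1
      exact ⟨k, congrArg Subtype.val hk⟩
    have hs : (h * t * h⁻¹) * (h * t * h⁻¹) = 1 := by rw [conj_mul, ht2]; simp
    obtain ⟨m, hm⟩ := H9.exists_pow_conj_of_odd ht2 hs (hx.of_dvd_nat (orderOf_dvd_of_mem_zpowers h2))
    refine ⟨_, pow_mem h2 m, ?_⟩
    have h3 := hP (h * t * h⁻¹) (mem_smul.mpr (by
      rw [show h⁻¹ * (h * t * h⁻¹) * h = t by group]; exact htT))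
    rw [← hm, app_mul, app_mul] at h3
    rw [← app_inv φ _ (φ t _), h3]
  have hfree' : ∀ u ∈ zpowers x, ∀ w ≠ 1, φ u w = w → u = 1 := fun u hu => by
    refine hfree u (hx.of_dvd_nat (orderOf_dvd_of_mem_zpowers hu)) ?_
    obtain ⟨k, rfl⟩ := mem_zpowers_iff.mp hu
    exact H9.conj_zpow_of_inverts htx k
  have hirr : ∀ V : Subgroup W, (∀ w ∈ V, φ x w ∈ V) → V ≠ ⊥ → V = ⊤ := fun V hV hne =>
    eq_of_le_of_card_ge le_top (le_of_eq ((card_of_inv φ hW ht2 hx hx1 htx hfree' hcov (fun _ _ => mem_top _)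
      top_ne_bot).trans (card_of_inv φ hW ht2 hx hx1 htx hfree' hcov hV hne).symm))
  have hsemi : ∀ h : X, h * x = x * h → ∀ w ≠ 1, φ h w = w → h = 1 := by
    intro h hh w hw e
    have := hirr (MonoidHom.eqLocus (φ h).toMonoidHom (MonoidHom.id W)) (fun v hv => by
      have hv : φ h v = v := hv
      change φ h (φ x v) = φ x v
      rw [← app_mul, hh, app_mul, hv]) (fun e' => by
        have : w ∈ MonoidHom.eqLocus (φ h).toMonoidHom (MonoidHom.id W) := e
        rw [e'] at this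
        exact hw this)
    refine hφ (MulEquiv.ext fun v => ?_)
    have hv : v ∈ MonoidHom.eqLocus (φ h).toMonoidHom (MonoidHom.id W) := this ▸ mem_top v
    rw [map_one]; exact hv
  obtain ⟨w₀, hw₀⟩ := exists_ne (1 : W)
  have : IsMulCommutative Cx⟦x⟧ := ⟨⟨fun a b => Subtype.ext (by
    have h1 := comm_of_irred φ hirr hw₀ (mem_Cx.mp a.2) (mem_Cx.mp b.2)
    have h2 := hsemi _ (mem_Cx.mp ((b * a)⁻¹ * (a * b)).2) w₀ hw₀ (by
      rw [coe_mul, coe_inv, app_mul, coe_mul, coe_mul, h1, app_inv])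
    rw [coe_mul, coe_inv, inv_mul_eq_one] at h2
    exact h2.symm)⟩⟩
  refine propQ hb (H2.isCyclic_of_fpf_of_comm (φ.comp (Cx⟦x⟧).subtype) fun a ha1 v hv => ?_) (hb x hx hxr)
  by_contra e
  exact ha1 (Subtype.ext (hsemi a (mem_Cx.mp a.2) v e hv))

end H92.RC
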