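import Mathlib
import Cfsg.Agent.Base
import Cfsg.Agent.Lib.Misc92.RealMod
import Cfsg.Agent.Lib.Core.Hall
import Cfsg.Agent.S3861
import Cfsg.Agent.S3863

/-! Groups whose prime graph on real class sizes is disconnected. -/

set_option autoImplicit false

namespace H92.RC

open Subgroup Cfsg H80 H3 MulAction
open scoped Pointwise

variable {G : Type*} [Group G] [Finite G]

theorem isConj_mul_of_coprime {x y : G} (hc : cs⟦x⟧.Coprime cs⟦y⟧) {x' y' : G} (hx : IsConj x x')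
    (hy : IsConj y y') : IsConj (x * y) (x' * y') := by
  obtain ⟨a, rfl⟩ := isConj_iff.mp hx
  obtain ⟨b, rfl⟩ := isConj_iff.mp hy
  obtain ⟨c, hc', d, hd, e⟩ := exists_mul_of_coprime_index hc (a⁻¹ * b)
  obtain rfl : b = a * c * d := by rw [mul_assoc, ← e]; group
  refine isConj_iff.mpr ⟨a * c, ?_⟩
  calc a * c * (x * y) * (a * c)⁻¹ = a * (c * x * c⁻¹) * a⁻¹ * (a * c * y * (a * c)⁻¹) := by group
    _ = _ := by
      rw [mem_Cx_iff_conj.mp hc']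
      conv_lhs => rw [← mem_Cx_iff_conj.mp hd]
      group

theorem real_mul {x y : G} (hc : cs⟦x⟧.Coprime cs⟦y⟧) (hx : IsConj x x⁻¹) (hy : IsConj y y⁻¹) :
    IsConj (x * y) (x * y)⁻¹ :=
  (isConj_mul_of_coprime hc hx hy).trans (isConj_iff.mpr ⟨x, by group⟩)

theorem dich {x y : G} (hc : cs⟦x⟧.Coprime cs⟦y⟧) (h : cs⟦x * y⟧.Coprime cs⟦y⟧) :
    ∃ S : Subgroup G, S.Normal ∧ (∀ b, b * y * b⁻¹ * y⁻¹ ∈ S) ∧ (∀ s ∈ S, IsConj x (x * s)) ∧
      Nat.card S ∣ cs⟦x⟧ := by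
  let S : Subgroup G :=
    { carrier := {s | ∀ x', IsConj x x' ↔ IsConj x (x' * s)}
      one_mem' := fun x' => by rw [mul_one]
      mul_mem' := fun {a b} ha hb x' => by rw [ha, hb, mul_assoc]
      inv_mem' := fun {a} ha x' => by rw [ha (x' * a⁻¹), inv_mul_cancel_right] }
  have hmem : ∀ s, (∀ x', IsConj x x' → IsConj x (x' * s)) → s ∈ S := by
    intro s hs x'
    refine ⟨hs x', fun h1 => ?_⟩
    have h2 : Set.BijOn (· * s) {u | IsConj x u} {u | IsConj x u} :=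
      ((Set.toFinite _).injOn_iff_bijOn_of_mapsTo hs).mp (mul_left_injective s).injOn
    obtain ⟨u, hu, e⟩ := h2.surjOn h1
    rwa [← mul_right_cancel e]
  have h1 : cs⟦x * y⟧ ∣ cs⟦x⟧ := h.dvd_of_dvd_mul_right (by
    rw [← index_inf_of_coprime hc]; exact index_dvd_of_le (inf_le_Cx_mul x y))
  have h2 : (· * y) '' {u | IsConj x u} = {u | IsConj (x * y) u} := by
    refine Set.eq_of_subset_of_ncard_le ?_ ?_ (Set.toFinite _)
    · rintro _ ⟨u, hu, rfl⟩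
      exact isConj_mul_of_coprime hc hu (IsConj.refl y)
    · rw [Set.ncard_image_of_injective _ (mul_left_injective y), ncard_isConj, ncard_isConj]
      exact Nat.le_of_dvd (cs_pos x) h1
  refine ⟨S, ⟨fun s hs g => hmem _ fun x' hx' => ?_⟩, fun b => hmem _ fun x' hx' => ?_,
    fun s hs => (hs x).mp (IsConj.refl x), ?_⟩
  · have := (hs (g⁻¹ * x' * g)).mp (hx'.trans (isConj_iff.mpr ⟨g⁻¹, by group⟩))
    exact this.trans (isConj_iff.mpr ⟨g, by group⟩)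
  · have h3 : x' * (b * y * b⁻¹) ∈ {u | IsConj (x * y) u} :=
      isConj_mul_of_coprime hc hx' (isConj_iff.mpr ⟨b, rfl⟩)
    rw [← h2] at h3
    obtain ⟨u, hu, e⟩ := h3
    rwa [← mul_assoc, ← e, mul_inv_cancel_right]
  · have h3 : {u | IsConj x u} = QuotientGroup.mk ⁻¹' ((QuotientGroup.mk : G → G ⧸ S) '' {u | IsConj x u}) := by
      refine Set.Subset.antisymm (Set.subset_preimage_image _ _) ?_
      rintro u ⟨v, hv, e⟩
      have := (QuotientGroup.eq.mp e v).mp hv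
      rwa [mul_inv_cancel_left] at this
    rw [← ncard_isConj, h3, ← Nat.card_coe_set_eq, QuotientGroup.card_preimage_mk]
    exact dvd_mul_right _ _

omit [Finite G] in
theorem mem_of_real_odd {S : Subgroup G} {x : G} (h : ∀ b, b * x * b⁻¹ * x⁻¹ ∈ S) (hx : Odd (orderOf x))
    (hr : IsConj x x⁻¹) : x ∈ S := by
  obtain ⟨b, hb⟩ := isConj_iff.mp hr
  have h1 := S.inv_mem (h b)
  rw [hb, mul_inv_rev, inv_inv] at h1
  obtain ⟨k, hk⟩ := hx
  have := S.pow_mem h1 (k + 1)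
  rwa [← sq, ← pow_mul, show 2 * (k + 1) = 2 * k + 1 + 1 by ring, pow_succ, ← hk, pow_orderOf_eq_one,
    one_mul] at this

theorem normal_subtype {H : Subgroup G} (h : ∀ x ∈ H, Odd (orderOf x) → IsConj x x⁻¹ → x = 1)
    (P : Sylow 2 H) : (P : Subgroup H).Normal :=
  (Cfsg.Agent.S3861.result P).mp fun x hx1 hx hr =>
    hx1 (Subtype.ext (h x x.2 (by rwa [orderOf_coe]) (by simpa using H.subtype.map_isConj hr)))

theorem even_cs {x : G} (hx1 : x ≠ 1) (hx : Odd (orderOf x)) (hr : IsConj x x⁻¹) : 2 ∣ cs⟦x⟧ := by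
  by_contra e
  exact hx1 (eq_one_of_odd_of_sq hx (by
    rw [← sq]; exact (Cfsg.Agent.S3863.result x hr).2.1 (Nat.odd_iff.mpr (Nat.two_dvd_ne_zero.mp e))))

section main

variable {π₁ π₂ : Set ℕ} (hs : ∀ x : G, IsConj x x⁻¹ → PiNum π₁ cs⟦x⟧ ∨ PiNum π₂ cs⟦x⟧)
  (hd : Disjoint π₁ π₂) (h2 : 2 ∉ π₂) {y : G} (hy : IsConj y y⁻¹) (hy2 : PiNum π₂ cs⟦y⟧) (hy1 : cs⟦y⟧ ≠ 1)

omit [Finite G] in
include h2 in
theorem odd_of_piNum {n : ℕ} (h : PiNum π₂ n) : Odd n :=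
  Nat.odd_iff.mpr (Nat.two_dvd_ne_zero.mp fun e => h2 (h 2 Nat.prime_two e))

include hs h2 in
theorem piNum_odd {x : G} (hx : Odd (orderOf x)) (hr : IsConj x x⁻¹) : PiNum π₁ cs⟦x⟧ := by
  by_cases hx1 : x = 1
  · rw [hx1, cs_one]; exact piNum_one _
  exact (hs x hr).resolve_right fun e => h2 (e 2 Nat.prime_two (even_cs hx1 hx hr))

include h2 hy hy2 in
theorem y_sq : y * y = 1 := by
  rw [← sq]; exact (Cfsg.Agent.S3863.result y hy).2.1 (odd_of_piNum h2 hy2)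

include hs hd h2 hy hy2 hy1

theorem not_comm {x : G} (hx : Odd (orderOf x)) (hr : IsConj x x⁻¹) (hc : x * y = y * x) : x = 1 := by
  by_contra hx1
  have h1 := piNum_odd hs h2 hx hr
  have hco : (orderOf x).Coprime (orderOf y) := (Nat.coprime_two_right.mpr hx).coprime_dvd_right
    (orderOf_dvd_of_pow_eq_one (by rw [sq, y_sq h2 hy hy2]))
  rcases hs _ (real_mul (h1.coprime_of_disjoint hy2 hd) hr hy) with e | e
  · exact hy1 ((Nat.coprime_self _).mp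
      ((e.of_dvd (cs_dvd_cs_mul_right hc hco)).coprime_of_disjoint hy2 hd))
  · exact h2 (e 2 Nat.prime_two ((even_cs hx1 hx hr).trans (cs_dvd_cs_mul_left hc hco)))

theorem piNum_sylow : PiNum π₂ (Nat.card (Sylow 2 G)) := by
  obtain ⟨P, hP⟩ := not_dvd_cs_iff.mp (show ¬ 2 ∣ cs⟦y⟧ from fun e => h2 (hy2 2 Nat.prime_two e))
  have := normal_subtype (H := Cx⟦y⟧) (fun x hx h1 h3 => not_comm hs hd h2 hy hy2 hy1 h1 h3 (mem_Cx.mp hx))
    (P.subtype hP)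
  rw [P.card_eq_index_normalizer]
  exact hy2.of_dvd (index_dvd_of_le ((normal_subgroupOf_iff_le_normalizer hP).mp this))

theorem solvable_main : Group.IsSolvable G := by
  have hn := piNum_sylow hs hd h2 hy hy2 hy1
  have hyy := y_sq h2 hy hy2
  have hb : ∀ x : G, Odd (orderOf x) → IsConj x x⁻¹ → cs⟦x⟧.Coprime (Nat.card (Sylow 2 G)) :=
    fun x hx hr => (piNum_odd hs h2 hx hr).coprime_of_disjoint hn hd
  have hcop : ∀ x : G, Odd (orderOf x) → IsConj x x⁻¹ → cs⟦x⟧.Coprime cs⟦y⟧ :=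
    fun x hx hr => (piNum_odd hs h2 hx hr).coprime_of_disjoint hy2 hd
  -- the dichotomy
  have hdi : ∀ x : G, Odd (orderOf x) → IsConj x x⁻¹ →
      (∃ S : Subgroup G, S.Normal ∧ (∀ b, b * y * b⁻¹ * y⁻¹ ∈ S) ∧ (∀ s ∈ S, IsConj x (x * s)) ∧
        Nat.card S ∣ cs⟦x⟧) ∨ (x ∈ oddCore G ∧ IsConj y (y * x)) := by
    intro x hx hr
    rcases hs _ (real_mul (hcop x hx hr) hr hy) with e | e
    · exact Or.inl (dich (hcop x hx hr) (e.coprime_of_disjoint hy2 hd))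
    · rw [cs_eq_of_isConj (isConj_iff.mpr ⟨y, by group⟩ : IsConj (x * y) (y * x))] at e
      obtain ⟨S, hS, h1, h3, h4⟩ := dich (hcop x hx hr).symm
        (e.coprime_of_disjoint (piNum_odd hs h2 hx hr) hd.symm)
      have h5 := mem_of_real_odd h1 hx hr
      exact Or.inr ⟨H1.le_oddCore ((odd_of_piNum h2 hy2).of_dvd_nat h4) h5, h3 x h5⟩
  by_cases hB : ∀ x : G, Odd (orderOf x) → IsConj x x⁻¹ → x ∈ oddCore G
  · refine H1.isSolvable_of_normal_of_quotient (oddCore G) (Cfsg.Agent.S0205.result H1.odd_card_oddCore) ?_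
    obtain ⟨P⟩ : Nonempty (Sylow 2 (G ⧸ oddCore G)) := inferInstance
    refine solvable_of_normal_sylow P ((Cfsg.Agent.S3861.result P).mp fun z hz1 hz hr => hz1 ?_)
    obtain ⟨x, rfl, hx, hr'⟩ := lift _ (QuotientGroup.mk'_surjective (oddCore G)) hz hr
    exact (QuotientGroup.eq_one_iff x).mpr (hB x hx hr')
  push Not at hB
  obtain ⟨x₀, hx₀, hr₀, hO⟩ := hB
  obtain ⟨S, hS, hS1, -, hS2⟩ := (hdi x₀ hx₀ hr₀).resolve_right fun e => hO e.1
  have hSy : S ≤ Cx⟦y⟧ := le_Cx_of_normal_of_coprime ((hcop x₀ hx₀ hr₀).coprime_dvd_left hS2)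
  have hcj : ∀ a ∈ Group.conjugatesOfSet ({y} : Set G), ∃ g, g * y * g⁻¹ = a := fun a ha => by
    obtain ⟨b, hb, ha⟩ := Group.mem_conjugatesOfSet_iff.mp ha
    rw [Set.mem_singleton_iff.mp hb] at ha
    exact isConj_iff.mp ha
  have hcomm : ∀ a ∈ Group.conjugatesOfSet ({y} : Set G), ∀ b ∈ Group.conjugatesOfSet ({y} : Set G),
      a * b = b * a := by
    intro a ha b hb
    obtain ⟨g, rfl⟩ := hcj a ha
    obtain ⟨h, rfl⟩ := hcj b hb
    have h1 := mem_Cx.mp (mul_mem (hSy (hS1 (h⁻¹ * g))) (self_mem_Cx _))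
    rw [inv_mul_cancel_right] at h1
    calc _ = h * (h⁻¹ * g * y * (h⁻¹ * g)⁻¹ * y) * h⁻¹ := by group
      _ = _ := by rw [h1]; group
  set E := normalClosure ({y} : Set G) with hE
  have hEc : IsMulCommutative E := isMulCommutative_closure hcomm
  have hEc' : ∀ a ∈ E, ∀ b ∈ E, a * b = b * a := fun a ha b hb => setLike_mul_comm ha hb
  have hE2 : ∀ e ∈ E, e * e = 1 := by
    intro e he
    induction he using closure_induction with
    | mem a ha =>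
      obtain ⟨g, rfl⟩ := hcj a ha
      rw [conj_mul, hyy]; simp
    | one => simp
    | mul a b ha hb h1 h3 =>
      rw [mul_assoc, ← mul_assoc b, hEc' b hb a ha, mul_assoc, h3, mul_one, h1]
    | inv a ha h1 => rw [← mul_inv_rev, h1, inv_one]
  have hyE : y ∈ E := subset_normalClosure rfl
  set W := normalClosure (Set.range fun b : G => b * y * b⁻¹ * y⁻¹) with hW
  have hWE : W ≤ E := normalClosure_le_normal (by
    rintro _ ⟨b, rfl⟩
    exact E.mul_mem (Subgroup.Normal.conj_mem inferInstance y hyE b) (E.inv_mem hyE))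
  have hW1 : W ≠ ⊥ := by
    intro e
    refine hy1 (cs_eq_one_iff.mpr (mem_center_iff.mpr fun b => ?_))
    have : b * y * b⁻¹ * y⁻¹ ∈ W := subset_normalClosure ⟨b, rfl⟩
    rw [e, mem_bot, mul_inv_eq_one, mul_inv_eq_iff_eq_mul] at this
    exact this
  have hfpf : ∀ x : G, Odd (orderOf x) → IsConj x x⁻¹ → ∀ w ∈ W, w ≠ 1 → x * w = w * x → x = 1 := by
    intro x hx hr w hw hw1 hc
    rcases hdi x hx hr with ⟨S, hS, h1, h3, -⟩ | ⟨-, h1⟩
    · have h4 : W ≤ S := normalClosure_le_normal (by rintro _ ⟨b, rfl⟩; exact h1 b)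
      have h5 := pow_orderOf_eq_one (x * w)
      rw [← H9.orderOf_eq_of_isConj (h3 w (h4 hw)), Commute.mul_pow hc, pow_orderOf_eq_one, one_mul] at h5
      exact absurd (eq_one_of_odd_of_sq (hx.of_dvd_nat (orderOf_dvd_of_pow_eq_one h5)) (hE2 w (hWE hw))) hw1
    · obtain ⟨g, hg⟩ := isConj_iff.mp h1
      have h3 : y * x * (y * x) = 1 := by rw [← hg, conj_mul, hyy]; simp
      have h4 : x * x ∈ E := by
        have := E.mul_mem (Subgroup.Normal.conj_mem inferInstance y hyE x) (E.inv_mem hyE)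
        rwa [show x * y * x⁻¹ * y⁻¹ = x * (y * y) * x * (y * x * (y * x))⁻¹ by group, hyy, h3, mul_one, inv_one,
          mul_one] at this
      have h5 := hE2 _ h4
      exact eq_one_of_odd_of_sq hx (eq_one_of_odd_of_sq (hx.of_dvd_nat
        (orderOf_dvd_of_mem_zpowers (mul_mem (mem_zpowers x) (mem_zpowers x)))) h5)
  have hx₀1 : x₀ ≠ 1 := by rintro rfl; exact hO (one_mem _)
  obtain ⟨p, hp, hpx⟩ := Nat.exists_prime_and_dvd (mt orderOf_eq_one_iff.mp hx₀1)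
  have := Fact.mk hp
  obtain ⟨x, hxp, hx, hr⟩ : ∃ x : G, orderOf x = p ∧ Odd (orderOf x) ∧ IsConj x x⁻¹ := by
    obtain ⟨g, hg⟩ := isConj_iff.mp hr₀
    exact ⟨x₀ ^ (orderOf x₀ / p), orderOf_pow_orderOf_div (orderOf_pos x₀).ne' hpx,
      hx₀.of_dvd_nat (orderOf_pow_dvd _), isConj_iff.mpr ⟨g, H9.conj_pow_of_inverts hg _⟩⟩
  have hx1 : x ≠ 1 := by rintro rfl; rw [orderOf_one] at hxp; exact hp.one_lt.ne hxp
  have hxP : IsPGroup p (zpowers x) :=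
    H9.isPGroup_zpowers_of_pow (a := 1) (by rw [pow_one, ← hxp, pow_orderOf_eq_one])
  have hp2 : p ∈ π₂ := by
    refine hn p hp ?_
    by_contra e
    obtain ⟨P, hP⟩ := hxP.nonempty_fixed_point_of_prime_not_dvd_card (Sylow 2 G) e
    exact hx1 (nr_of_coprime hb x hx hr P (hP ⟨x, mem_zpowers x⟩))
  have hodd : ∀ w ∈ W, w ≠ 1 → ¬ 2 ∣ cs⟦w⟧ := by
    intro w hw hw1
    rcases hs w (by rw [inv_eq_of_mul_eq_one_right (hE2 w (hWE hw))]) with e | e
    · exfalso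
      obtain ⟨P, hP⟩ := not_dvd_cs_iff.mp fun e' => Set.disjoint_left.mp hd (e p hp e') hp2
      obtain ⟨g, hg⟩ := H9.exists_conj_mem_sylow P hxP
      have h1 := hfpf (g * x * g⁻¹) (by rwa [H9.orderOf_conj]) (by
        rw [conj_inv]
        exact (isConj_iff.mpr ⟨g, rfl⟩ : IsConj x _).symm.trans (hr.trans (isConj_iff.mpr ⟨g, rfl⟩)))
        w hw hw1 (mem_Cx.mp (hP (hg x (mem_zpowers x))))
      exact hx1 (by simpa using h1)
    · exact fun e' => h2 (e 2 Nat.prime_two e')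
  let φ : G →* MulAut W := MulAut.conjNormal
  have hφ : ∀ (g : G) (w : W), φ g w = w ↔ g * w = w * g := fun g w => by
    rw [Subtype.ext_iff, MulAut.conjNormal_apply, mul_inv_eq_iff_eq_mul]
  have hf := φ.rangeRestrict_surjective
  have : Nontrivial W := (nontrivial_iff_ne_bot W).mpr hW1
  letI : CommGroup W := { (inferInstance : Group W) with
    mul_comm := fun a b => Subtype.ext (hEc' a (hWE a.2) b (hWE b.2)) }
  have hX : Group.IsSolvable φ.range := by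
    refine solvable_of_module (W := W) φ.range.subtype (fun w => Subtype.ext (hE2 w (hWE w.2)))
      φ.range.subtype_injective (fun w hw => ?_) (fun z hz hr => ?_) (fun z hz hr w hw e => ?_)
    · obtain ⟨P, hP⟩ := not_dvd_cs_iff.mp (hodd w w.2 fun e => hw (Subtype.ext e))
      refine ⟨P.mapSurjective hf, ?_⟩
      rintro _ ⟨u, hu, rfl⟩
      exact (hφ u w).mpr (mem_Cx.mp (hP hu))
    · obtain ⟨x, rfl, hx, hr'⟩ := lift _ hf hz hr
      exact ((hb x hx hr').coprime_dvd_left (cs_map_dvd hf x)).coprime_dvd_right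
        (H5.card_sylow_dvd_of_surjective hf)
    · obtain ⟨x, rfl, hx, hr'⟩ := lift _ hf hz hr
      rw [hfpf x hx hr' w w.2 (fun e => hw (Subtype.ext e)) ((hφ x w).mp e), map_one]
  obtain ⟨w, hw⟩ := exists_ne (1 : W)
  have hC : Group.IsSolvable Cx⟦(w : G)⟧ := by
    obtain ⟨P⟩ : Nonempty (Sylow 2 Cx⟦(w : G)⟧) := inferInstance
    exact solvable_of_normal_sylow P (normal_subtype (fun x hx h1 h3 =>
      hfpf x h1 h3 w w.2 (fun e => hw (Subtype.ext e)) (mem_Cx.mp hx)) P)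
  refine Group.isSolvable_of_ker_le_range (Cx⟦(w : G)⟧).subtype φ.rangeRestrict fun g hg => ?_
  rw [range_subtype, mem_Cx, ← hφ, show φ g = 1 from congrArg Subtype.val hg]
  rfl

theorem piNum_closure :
    PiNum (insert 2 π₂) (Nat.card (closure {g : G | ∃ k : ℕ, orderOf g = 2 ^ k})) := by
  have := solvable_main hs hd h2 hy hy2 hy1
  have hn := piNum_sylow hs hd h2 hy hy2 hy1
  obtain ⟨P⟩ : Nonempty (Sylow 2 G) := inferInstance
  obtain ⟨L, hL, hPL⟩ := exists_isPiHall_ge (π := insert 2 π₂) (K := (P : Subgroup G))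
    (H1.isPiSubgroup_mono (H1.isPiSubgroup_singleton_iff.mpr P.isPGroup') (by simp))
  refine (isPiHall_iff.mp hL).1.of_dvd (card_dvd_of_le ((closure_le _).mpr ?_))
  rintro g ⟨k, hk⟩
  obtain ⟨Q, hQ⟩ := exists_sylow_mem (t := g) (j := k) (by rw [← hk, pow_orderOf_eq_one])
  obtain ⟨c, hc, rfl⟩ := exists_smul_of_coprime
    ((isPiHall_iff.mp hL).2.coprime' (hn.mono (Set.subset_insert _ _))) P Q
  simpa [mul_assoc] using L.mul_mem (L.mul_mem hc (hPL (mem_smul.mp hQ))) (L.inv_mem hc)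

theorem structure_main (hP : ¬ ∀ P : Sylow 2 G, (P : Subgroup G).Normal) {K : Subgroup G}
    (hK : K = closure {g : G | ∃ k : ℕ, orderOf g = 2 ^ k}) :
    (∃ x : K, IsConj x x⁻¹ ∧ 2 ∣ cs⟦x⟧) ∧ (∃ x : K, IsConj x x⁻¹ ∧ Odd cs⟦x⟧ ∧ cs⟦x⟧ ≠ 1) ∧
      ∀ x : K, IsConj x x⁻¹ → Odd cs⟦x⟧ ∨ ∃ j : ℕ, cs⟦x⟧ = 2 ^ j := by
  have hc := piNum_closure hs hd h2 hy hy2 hy1
  rw [← hK] at hc
  have hN : K.Normal := by
    rw [hK]
    refine ⟨fun n hn g => ?_⟩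
    have : closure {g : G | ∃ k : ℕ, orderOf g = 2 ^ k} ≤
        (closure {g : G | ∃ k : ℕ, orderOf g = 2 ^ k}).comap (MulAut.conj g).toMonoidHom :=
      (closure_le _).mpr fun u hu => subset_closure (by
        change ∃ k : ℕ, orderOf (g * u * g⁻¹) = 2 ^ k
        rwa [H9.orderOf_conj])
    exact this hn
  push Not at hP
  obtain ⟨P, hP⟩ := hP
  have hi : Odd K.index := Nat.odd_iff.mpr (Nat.two_dvd_ne_zero.mp (not_dvd_index_of_sylow_le P fun u hu => by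
    rw [hK]
    obtain ⟨k, hk⟩ := IsPGroup.iff_orderOf.mp P.isPGroup' ⟨u, hu⟩
    exact subset_closure ⟨k, by rw [← hk, orderOf_mk]⟩))
  obtain ⟨x, hx1, hx, hr⟩ : ∃ x : G, x ≠ 1 ∧ Odd (orderOf x) ∧ IsConj x x⁻¹ := by
    by_contra e
    push Not at e
    exact hP ((Cfsg.Agent.S3861.result P).mp e)
  obtain ⟨hxK, hr'⟩ := (Cfsg.Agent.S3863.result x hr).2.2 K hi
  obtain ⟨hyK, hy'⟩ := (Cfsg.Agent.S3863.result y hy).2.2 K hi
  refine ⟨⟨⟨x, hxK⟩, hr', even_cs (fun e => hx1 (congrArg Subtype.val e)) (by rwa [orderOf_mk]) hr'⟩,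
    ⟨⟨y, hyK⟩, hy', (odd_of_piNum h2 hy2).of_dvd_nat (cs_subtype_dvd K ⟨y, hyK⟩), fun e => ?_⟩,
    fun z hz => ?_⟩
  · exact hx1 (not_comm hs hd h2 hy hy2 hy1 hx hr
      (congrArg Subtype.val (mem_center_iff.mp (cs_eq_one_iff.mp e) ⟨x, hxK⟩)))
  · rcases hs z (by simpa using K.subtype.map_isConj hz) with e | e
    · refine Or.inr ((piNum_singleton_iff Nat.prime_two (cs_ne_zero z)).mp fun q hq hqz => ?_)
      exact (hc q hq (hqz.trans (cs_dvd_card z))).resolve_right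
        (Set.disjoint_left.mp hd (e q hq (hqz.trans (cs_subtype_dvd K z))))
    · exact Or.inl ((odd_of_piNum h2 e).of_dvd_nat (cs_subtype_dvd K z))

end main

theorem central_of_dich {x y : G} (hc : cs⟦x⟧.Coprime cs⟦y⟧) (h : cs⟦x * y⟧.Coprime cs⟦y⟧)
    (hx : Odd cs⟦x⟧) (hy : y * y = 1) : cs⟦y⟧ = 1 := by
  obtain ⟨S, hS, h1, -, h2⟩ := dich hc h
  have h3 : S ≤ Cx⟦y⟧ := le_Cx_of_normal_of_coprime (hc.coprime_dvd_left h2)
  refine cs_eq_one_iff.mpr (mem_center_iff.mpr fun b => ?_)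
  have h4 := mem_Cx.mp (mul_mem (h3 (h1 b)) (self_mem_Cx y))
  rw [inv_mul_cancel_right] at h4
  have h5 := eq_one_of_odd_of_sq ((hx.of_dvd_nat h2).of_dvd_nat (H1.orderOf_dvd_card_of_mem (h1 b))) (by
    rw [inv_eq_of_mul_eq_one_right hy]
    calc _ = b * y * b⁻¹ * (y * (b * y * b⁻¹)) * y := by group
      _ = b * (y * y) * b⁻¹ * (y * y) := by rw [← h4]; group
      _ = 1 := by rw [hy]; group)
  rwa [mul_inv_eq_one, mul_inv_eq_iff_eq_mul] at h5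

omit [Finite G] in
theorem split_of_noedge {π₁ π₂ : Set ℕ}
    (hcover : ∀ q : ℕ, q.Prime → (∃ n ∈ {n : ℕ | ∃ x : G, IsConj x x⁻¹ ∧ cs⟦x⟧ = n}, q ∣ n) → q ∈ π₁ ∨ q ∈ π₂)
    (hnoedge : ∀ a ∈ π₁, ∀ b ∈ π₂, ∀ n ∈ {n : ℕ | ∃ x : G, IsConj x x⁻¹ ∧ cs⟦x⟧ = n}, ¬ (a ∣ n ∧ b ∣ n))
    (x : G) (hx : IsConj x x⁻¹) : PiNum π₁ cs⟦x⟧ ∨ PiNum π₂ cs⟦x⟧ := by
  by_contra e
  simp only [PiNum, not_or, not_forall] at e
  obtain ⟨⟨a, ha, ha1, ha2⟩, b, hb, hb1, hb2⟩ := e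
  exact hnoedge b ((hcover b hb ⟨_, ⟨x, hx, rfl⟩, hb1⟩).resolve_right hb2) a
    ((hcover a ha ⟨_, ⟨x, hx, rfl⟩, ha1⟩).resolve_left ha2) _ ⟨x, hx, rfl⟩ ⟨hb1, ha1⟩

omit [Finite G] in
theorem exists_type {π₁ π₂ : Set ℕ} (hs : ∀ x : G, IsConj x x⁻¹ → PiNum π₁ cs⟦x⟧ ∨ PiNum π₂ cs⟦x⟧)
    (hd : Disjoint π₁ π₂) {q : ℕ} (hq : q ∈ π₂)
    (h : q.Prime ∧ ∃ n ∈ {n : ℕ | ∃ x : G, IsConj x x⁻¹ ∧ cs⟦x⟧ = n}, q ∣ n) :
    ∃ y : G, IsConj y y⁻¹ ∧ PiNum π₂ cs⟦y⟧ ∧ cs⟦y⟧ ≠ 1 := by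
  obtain ⟨hp, _, ⟨y, hy, rfl⟩, h1⟩ := h
  exact ⟨y, hy, (hs y hy).resolve_left fun e => Set.disjoint_left.mp hd (e q hp h1) hq,
    fun e => hp.not_dvd_one (e ▸ h1)⟩

end H92.RC
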