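import Cfsg.Agent.Lib.FF.Offender
import Cfsg.Agent.Lib.H4.SylRules
import Cfsg.Agent.Lib.LocStruct.SylowIn

/-!
# The Sims–Glauberman chain of a subgroup meeting a conjugate in prime index (helper92)
-/

set_option autoImplicit false

namespace H92

open Subgroup Cfsg H69
open scoped Pointwise commutatorElement

variable {G : Type*} [Group G]

/-- Intersection of the images of `P` under the powers of `σ` with exponent in an interval. -/
def sI (σ : MulAut G) (P : Subgroup G) (i j : ℤ) : Subgroup G := ⨅ k ∈ Set.Icc i j, σ ^ k • P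

theorem sI_eq_defs (σ : MulAut G) (P : Subgroup G) (i j : ℤ) :
    sI σ P i j = ⨅ k ∈ Set.Icc i j, σ ^ k • P := rfl

variable {σ : MulAut G} {P : Subgroup G}

theorem mem_sI {i j : ℤ} {y : G} : y ∈ sI σ P i j ↔ ∀ k, i ≤ k → k ≤ j → y ∈ σ ^ k • P := by
  simp only [sI, mem_iInf, Set.mem_Icc, and_imp]

theorem sI_anti {i j i' j' : ℤ} (h1 : i ≤ i') (h2 : j' ≤ j) : sI σ P i j ≤ sI σ P i' j' :=
  fun _ hy => mem_sI.2 fun k a b => mem_sI.1 hy k (h1.trans a) (b.trans h2)

theorem sI_self (i : ℤ) : sI σ P i i = σ ^ i • P :=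
  le_antisymm (fun _ hy => mem_sI.1 hy i le_rfl le_rfl)
    fun _ hy => mem_sI.2 fun k a b => (le_antisymm a b) ▸ hy

theorem smul_sI (m i j : ℤ) : σ ^ m • sI σ P i j = sI σ P (i + m) (j + m) := by
  ext y
  rw [mem_pointwise_smul_iff_inv_smul_mem, mem_sI, mem_sI]
  have e : ∀ k : ℤ, (σ ^ m)⁻¹ • y ∈ σ ^ k • P ↔ y ∈ σ ^ (k + m) • P := fun k => by
    rw [← mem_pointwise_smul_iff_inv_smul_mem, smul_smul, ← zpow_add, add_comm]
  constructor
  · intro h k a b
    have := (e (k - m)).1 (h _ (by omega) (by omega))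
    rwa [sub_add_cancel] at this
  · intro h k a b
    exact (e k).2 (h _ (by omega) (by omega))

theorem card_mulAut_smul (τ : MulAut G) (A : Subgroup G) : Nat.card (τ • A : Subgroup G) = Nat.card A :=
  H24.card_map_of_inj (f := τ.toMonoidHom) τ.injective A

theorem smul_normalizer' (τ : MulAut G) (A : Subgroup G) : τ • 𝐍(A) = 𝐍((τ • A : Subgroup G)) :=
  map_equiv_normalizer_eq A τ

theorem card_sI (i j : ℤ) : Nat.card (sI σ P i j) = Nat.card (sI σ P 0 (j - i)) := by
  rw [← card_mulAut_smul (σ ^ i) (sI σ P 0 (j - i)), smul_sI, zero_add, sub_add_cancel]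

/-- The data of the chain. -/
structure SChain (σ : MulAut G) (P : Subgroup G) (p t : ℕ) (x : ℤ → G) (X : ℤ → ℤ → Subgroup G) : Prop where
  pos : 1 ≤ t
  shift : ∀ m i : ℤ, (σ ^ m) (x i) = x (i + m)
  shiftX : ∀ m a b : ℤ, σ ^ m • X a b = X (a + m) (b + m)
  mem : ∀ {a b i : ℤ}, a ≤ i → i ≤ b → x i ∈ X a b
  gen : ∀ {a b : ℤ} {M : Subgroup G}, b - a < t → (∀ i, a ≤ i → i ≤ b → x i ∈ M) → X a b ≤ M
  card : ∀ {a b : ℤ} (m : ℕ), m ≤ t → b + 1 = a + m → Nat.card (X a b) = p ^ m
  inf : ∀ {a b c d : ℤ}, d ≤ a + t → X a b ⊓ X c d ≤ X c b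
  bot : ∀ {a b : ℤ}, b < a → X a b = ⊥
  top : ∀ k : ℤ, σ ^ k • P = X (k - t + 1) k

theorem sChain_eq_defs (p t : ℕ) (x : ℤ → G) (X : ℤ → ℤ → Subgroup G) (h : SChain σ P p t x X) :
    1 ≤ t := h.pos

theorem sI_step [Finite G] {p : ℕ} (hp : p.Prime) (hN : σ • P ≤ 𝐍((P ⊓ σ • P : Subgroup G)))
    (hidx : (P ⊓ σ • P).relIndex (σ • P) = p) (i j : ℤ) (hij : i ≤ j) :
    sI σ P i j ≤ 𝐍(sI σ P (i - 1) j) ∧
      (Nat.card (sI σ P i j) = Nat.card (sI σ P (i - 1) j) ∨
        Nat.card (sI σ P i j) = Nat.card (sI σ P (i - 1) j) * p) := by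
  set M := σ ^ (i - 1) • (P ⊓ σ • P) with hM
  have eL : σ ^ (i - 1) • σ • P = σ ^ i • P := by rw [smul_smul, ← zpow_add_one, sub_add_cancel]
  have hLM : σ ^ i • P ≤ 𝐍(M) := by
    rw [hM, ← smul_normalizer', ← eL]
    exact pointwise_smul_le_pointwise_smul_iff.2 hN
  have hi : M.relIndex (σ ^ i • P) = p := by
    rw [← eL, hM, relIndex_pointwise_smul, hidx]
  have hle : sI σ P i j ≤ σ ^ i • P := fun y hy => mem_sI.1 hy i le_rfl hij
  have e : sI σ P (i - 1) j = sI σ P i j ⊓ M := by
    rw [hM, smul_inf, eL]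
    refine le_antisymm (le_inf (sI_anti (by omega) le_rfl) (le_inf
      (fun y hy => mem_sI.1 hy _ le_rfl (by omega)) fun y hy => mem_sI.1 hy _ (by omega) hij)) ?_
    intro y hy
    refine mem_sI.2 fun k a b => ?_
    rcases a.eq_or_lt with rfl | a
    · exact hy.2.1
    · exact mem_sI.1 hy.1 k (by omega) b
  refine ⟨e ▸ le_normalizer_inf le_normalizer (hle.trans hLM), ?_⟩
  have hn : (M.subgroupOf (σ ^ i • P)).Normal := normal_subgroupOf_of_le_normalizer hLM
  have hd : M.relIndex (sI σ P i j) ∣ p := by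
    rw [← hi, ← relIndex_subgroupOf hle]
    exact relIndex_dvd_index_of_normal _ _
  have hc := (M.subgroupOf (sI σ P i j)).card_mul_index
  rw [← inf_subgroupOf_left, H24.card_subgroupOf_of_le inf_le_left, inf_subgroupOf_left, ← e] at hc
  rcases (Nat.dvd_prime hp).1 hd with h | h
  · left; rw [← hc, show (M.subgroupOf (sI σ P i j)).index = 1 from h, mul_one]
  · right; rw [← hc, show (M.subgroupOf (sI σ P i j)).index = p from h]

set_option maxHeartbeats 400000 in
theorem exists_sChain [Finite G] {p : ℕ} (hp : p.Prime) (hN : σ • P ≤ 𝐍((P ⊓ σ • P : Subgroup G)))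
    (hidx : (P ⊓ σ • P).relIndex (σ • P) = p)
    (h1 : ∀ Q : Subgroup G, Q ≤ P → P ≤ 𝐍(Q) → σ • Q = Q → Q = ⊥) :
    ∃ t x X, SChain σ P p t x X := by
  have step := sI_step hp hN hidx
  obtain ⟨c, hc⟩ : ∃ c : ℕ → ℕ, ∀ k, c k = Nat.card (sI σ P 0 k) := ⟨_, fun _ => rfl⟩
  have hcs : ∀ k : ℕ, c k = c (k + 1) ∨ c k = c (k + 1) * p := fun k => by
    have := (step 0 k (by omega)).2
    rw [card_sI (0 - 1)] at this
    rw [hc, hc, show ((k + 1 : ℕ) : ℤ) = k - (0 - 1) by push_cast; ring]
    exact this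
  have hcpos : ∀ k, 0 < c k := fun k => by rw [hc]; exact Nat.card_pos
  have hex : ∃ k, c k = c (k + 1) := by
    by_contra hne
    push Not at hne
    have : ∀ k, c k + k ≤ c 0 := by
      intro k
      induction k with
      | zero => simp
      | succ k ih =>
        have h2 := (hcs k).resolve_left (hne k)
        have h3 := hcpos (k + 1)
        have h4 := hp.two_le
        nlinarith
    have := this (c 0 + 1)
    omega
  obtain ⟨t, hct, hlt⟩ : ∃ t, c t = c (t + 1) ∧ ∀ k < t, c k = c (k + 1) * p :=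
    ⟨Nat.find hex, Nat.find_spec hex, fun k hk => (hcs k).resolve_left (Nat.find_min hex hk)⟩
  have hcI : ∀ (i j : ℤ) (k : ℕ), j = i + k → Nat.card (sI σ P i j) = c k := fun i j k e => by
    rw [card_sI, e, add_sub_cancel_left, hc]
  have hsup : ∀ (i j : ℤ) (k : ℕ), j = i + k → k + 1 < t →
      sI σ P i j ≤ sI σ P i (j + 1) ⊔ sI σ P (i - 1) j := by
    intro i j k e hk
    refine (H23.eq_of_lt_of_card_eq_mul_prime hp (K := sI σ P (i - 1) j) ?_
      (lt_of_le_of_ne le_sup_right fun e' => ?_)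
      (sup_le (sI_anti le_rfl (by omega)) (sI_anti (by omega) le_rfl))).ge
    · rw [hcI i j k e, hcI (i - 1) j (k + 1) (by push_cast; omega), hlt k (by omega)]
    · have h2 : sI σ P i (j + 1) ≤ sI σ P (i - 1) (j + 1) := fun y hy => mem_sI.2 fun l a b => by
        rcases a.eq_or_lt with rfl | a
        · exact mem_sI.1 ((le_sup_left.trans e'.ge) hy) _ le_rfl (by omega)
        · exact mem_sI.1 hy l (by omega) b
      have h3 := card_le_of_le h2
      rw [hcI i (j + 1) (k + 1) (by push_cast; omega), hcI (i - 1) (j + 1) (k + 1 + 1) (by push_cast; omega),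
        hlt (k + 1) hk] at h3
      have h4 := hcpos (k + 1 + 1)
      have h5 := hp.two_le
      nlinarith
  have hA : σ • sI σ P 0 t = sI σ P 0 t := by
    have e1 : sI σ P 0 (t + 1) = sI σ P 0 t := eq_of_le_of_card_ge (sI_anti le_rfl (by omega))
      (by rw [hcI 0 (t + 1) (t + 1) (by push_cast; omega), hcI 0 t t (by omega), hct])
    have e2 : sI σ P (-1) t = sI σ P 0 t := eq_of_le_of_card_ge (sI_anti (by omega) le_rfl)
      (by rw [hcI (-1) t (t + 1) (by push_cast; omega), hcI 0 t t (by omega), hct])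
    have := smul_sI (σ := σ) (P := P) 1 (-1) t
    rwa [zpow_one, e2, neg_add_cancel, e1] at this
  have hAm : ∀ m : ℤ, sI σ P m (t + m) = sI σ P 0 t := fun m => by
    have := smul_sI (σ := σ) (P := P) m 0 t
    rw [zero_add] at this
    rw [← this]
    exact MulAction.mem_stabilizer_iff.1 (zpow_mem (MulAction.mem_stabilizer_iff.2 hA) m)
  have hNA : ∀ k : ℕ, k ≤ t → ∀ i j : ℤ, j + k = i + t → sI σ P i j ≤ 𝐍(sI σ P 0 t) := by
    intro k
    induction k with
    | zero =>
      intro _ i j e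
      rw [show j = t + i by omega, hAm]
      exact le_normalizer
    | succ k ih =>
      intro hk i j e
      rcases Nat.eq_zero_or_pos k with rfl | hk0
      · have := (step i j (by omega)).1
        rwa [show j = t + (i - 1) by omega, hAm, ← show j = t + (i - 1) by omega] at this
      · exact (hsup i j (t - (k + 1)) (by omega) (by omega)).trans
          (sup_le (ih (by omega) _ _ (by omega)) (ih (by omega) _ _ (by omega)))
  have hP0 : sI σ P 0 0 = P := by rw [sI_self, zpow_zero, one_smul]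
  have hA1 : sI σ P 0 t = ⊥ := h1 _ ((sI_anti le_rfl (by omega)).trans hP0.le)
    (hP0.ge.trans (hNA t le_rfl 0 0 rfl)) hA
  have hcp : ∀ m : ℕ, m ≤ t → c (t - m) = p ^ m := by
    intro m
    induction m with
    | zero => intro _; rw [hc, Nat.sub_zero, hA1, card_bot, pow_zero]
    | succ m ih =>
      intro hm
      rw [hlt _ (by omega), show t - (m + 1) + 1 = t - m by omega, ih (by omega), pow_succ]
  have ht1 : 1 ≤ t := by
    by_contra h0
    have h2 : P = ⊥ := by
      rw [show t = 0 by omega] at hA1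
      exact hP0.symm.trans hA1
    rw [h2, smul_bot, relIndex_bot_right] at hidx
    exact hp.one_lt.ne hidx
  obtain ⟨x₀, -, hx₀⟩ := H23.exists_zpowers_of_card_prime hp (A := sI σ P 0 (t - 1))
    (by rw [hcI 0 (t - 1) (t - 1) (by omega), hcp 1 ht1, pow_one])
  have hxz : ∀ i : ℤ, sI σ P i (i + t - 1) = zpowers ((σ ^ i) x₀) := fun i => by
    have := smul_sI (σ := σ) (P := P) i 0 (t - 1)
    rw [zero_add, hx₀] at this
    rw [show i + t - 1 = t - 1 + i by ring, ← this]
    exact MonoidHom.map_zpowers _ _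
  have hbot : ∀ a b : ℤ, b < a → sI σ P b (a + t - 1) = ⊥ := fun a b h => by
    rw [eq_bot_iff, ← hA1, ← hAm (a - 1)]
    exact sI_anti (by omega) (by omega)
  refine ⟨t, fun i => (σ ^ i) x₀, fun a b => sI σ P b (a + t - 1), ht1, fun m i => ?_, fun m a b => ?_,
    fun {a b i} h2 h3 => ?_, fun {a b M} h2 h3 => ?_, fun {a b} m h2 h3 => ?_, fun {a b c d} h2 y hy => ?_,
    fun {a b} => hbot a b, fun k => ?_⟩
  · rw [← MulAut.mul_apply, ← zpow_add, add_comm]
  · rw [smul_sI]; congr 1; ring
  · refine sI_anti (i' := b) (j' := a + t - 1) (i := i) (j := i + t - 1) h3 (by omega) ?_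
    rw [hxz]; exact mem_zpowers _
  · have key : ∀ m : ℕ, m < t → ∀ a b : ℤ, b = a + m → (∀ i, a ≤ i → i ≤ b → (σ ^ i) x₀ ∈ M) →
        sI σ P b (a + t - 1) ≤ M := by
      intro m
      induction m with
      | zero =>
        intro _ a b e h
        rw [show b = a by omega, hxz, zpowers_le]
        exact h a le_rfl (by omega)
      | succ m ih =>
        intro hm a b e h
        refine (hsup b _ (t - (m + 2)) (by omega) (by omega)).trans (sup_le ?_ ?_)
        · rw [show a + t - 1 + 1 = (a + 1) + t - 1 by ring]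
          exact ih (by omega) _ _ (by omega) fun i u v => h i (by omega) v
        · exact ih (by omega) _ _ (by omega) fun i u v => h i u (by omega)
    rcases lt_or_ge b a with h4 | h4
    · rw [hbot a b h4]; exact bot_le
    · exact key (b - a).toNat (by omega) a b (by omega) h3
  · rw [hcI _ _ (t - m) (by omega), hcp m h2]
  · refine mem_sI.2 fun k u v => ?_
    rcases le_or_gt k (a + t - 1) with h4 | h4
    · exact mem_sI.1 hy.1 k u h4
    · exact mem_sI.1 hy.2 k (by omega) v
  · rw [show k - t + 1 + t - 1 = k by ring, sI_self]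

namespace SChain

variable {p t : ℕ} {x : ℤ → G} {X : ℤ → ℤ → Subgroup G}

theorem mono (h : SChain σ P p t x X) {a b c d : ℤ} (h1 : a ≤ c) (h2 : d ≤ b) (h3 : d - c < t) :
    X c d ≤ X a b := h.gen h3 fun _ u v => h.mem (h1.trans u) (v.trans h2)

theorem card' (h : SChain σ P p t x X) {a b : ℤ} (h1 : a ≤ b + 1) (h2 : b - a < t) :
    Nat.card (X a b) = p ^ (b + 1 - a).toNat := h.card _ (by omega) (by omega)

theorem isPGroup (h : SChain σ P p t x X) {a b : ℤ} (h2 : b - a < t) : IsPGroup p (X a b) := by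
  rcases lt_or_ge b a with h1 | h1
  · rw [h.bot h1]; exact IsPGroup.of_bot
  · exact IsPGroup.of_card (h.card' (by omega) h2)

theorem card_left (h : SChain σ P p t x X) {a b : ℤ} (h1 : a ≤ b) (h2 : b - a < t) :
    Nat.card (X a b) = Nat.card (X (a + 1) b) * p := by
  rw [h.card' (by omega) h2, h.card' (by omega) (by omega), ← pow_succ]
  congr 1; omega

theorem card_right (h : SChain σ P p t x X) {a b : ℤ} (h1 : a ≤ b) (h2 : b - a < t) :
    Nat.card (X a b) = Nat.card (X a (b - 1)) * p := by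
  rw [h.card' (by omega) h2, h.card' (by omega) (by omega), ← pow_succ]
  congr 1; omega

theorem le_cent (h : SChain σ P p t x X) {a b : ℤ} (h2 : b - a < t) {y : G}
    (hc : ∀ i, a ≤ i → i ≤ b → Commute (x i) y) : X a b ≤ centralizer {y} :=
  h.gen h2 fun i u v => mem_centralizer_singleton_iff.2 (hc i u v)

theorem comm_of (h : SChain σ P p t x X) {a b : ℤ} (h2 : b - a < t) {y z : G} (hz : z ∈ X a b)
    (hc : ∀ i, a ≤ i → i ≤ b → Commute (x i) y) : Commute z y :=
  mem_centralizer_singleton_iff.1 (h.le_cent h2 hc hz)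

theorem comm_of₂ (h : SChain σ P p t x X) {a b c d : ℤ} (h2 : b - a < t) (h3 : d - c < t) {y z : G}
    (hz : z ∈ X a b) (hy : y ∈ X c d)
    (hc : ∀ i j, a ≤ i → i ≤ b → c ≤ j → j ≤ d → Commute (x i) (x j)) : Commute z y :=
  h.comm_of h2 hz fun i u v => (h.comm_of h3 hy fun j u' v' => (hc i j u v u' v').symm).symm

theorem commute_shift (h : SChain σ P p t x X) {i j : ℤ} (m : ℤ) (hc : Commute (x i) (x j)) :
    Commute (x (i + m)) (x (j + m)) := by
  rw [← h.shift, ← h.shift]
  exact hc.map (σ ^ m)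

theorem mem_shift (h : SChain σ P p t x X) {a b : ℤ} (m : ℤ) {y : G} (hy : y ∈ X a b) :
    (σ ^ m) y ∈ X (a + m) (b + m) := by
  rw [← h.shiftX]
  exact smul_mem_pointwise_smul y (σ ^ m) _ hy

variable [Finite G] [hp : Fact p.Prime]

theorem relIndex_eq {A B : Subgroup G} (hle : A ≤ B) (h : Nat.card B = Nat.card A * p) : A.relIndex B = p := by
  have h1 := (A.subgroupOf B).card_mul_index
  rw [H24.card_subgroupOf_of_le hle, h] at h1
  exact Nat.eq_of_mul_eq_mul_left Nat.card_pos h1

theorem norm_left (h : SChain σ P p t x X) {a b : ℤ} (h1 : a ≤ b) (h2 : b - a < t) :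
    X a b ≤ 𝐍(X (a + 1) b) :=
  H4.le_normalizer_of_relIndex_eq (h.isPGroup h2) (h.mono (by omega) le_rfl (by omega))
    (relIndex_eq (h.mono (by omega) le_rfl (by omega)) (h.card_left h1 h2))

theorem norm_right (h : SChain σ P p t x X) {a b : ℤ} (h1 : a ≤ b) (h2 : b - a < t) :
    X a b ≤ 𝐍(X a (b - 1)) :=
  H4.le_normalizer_of_relIndex_eq (h.isPGroup h2) (h.mono le_rfl (by omega) (by omega))
    (relIndex_eq (h.mono le_rfl (by omega) (by omega)) (h.card_right h1 h2))

theorem comm_mem (h : SChain σ P p t x X) {a b : ℤ} (h1 : a < b) (h2 : b - a < t) :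
    ⁅x a, x b⁆ ∈ X (a + 1) (b - 1) := by
  refine h.inf (a := a) (d := b) (by omega) ⟨?_, ?_⟩
  · exact commutator_le_left_of_le_normalizer (h.norm_right h1.le h2)
      (commutator_mem_commutator (h.mem le_rfl (by omega)) (h.mem h1.le le_rfl))
  · exact commutator_le_right_of_le_normalizer (h.norm_left h1.le h2)
      (commutator_mem_commutator (h.mem le_rfl h1.le) (h.mem (by omega) le_rfl))

theorem ne_one (h : SChain σ P p t x X) (i : ℤ) : x i ≠ 1 := fun e => by
  have h1 := h.pos
  have h2 : X i i ≤ ⊥ := h.gen (by omega) fun j u v => by rw [le_antisymm v u, e]; exact one_mem _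
  have h3 := h.card (a := i) (b := i) 1 h1 rfl
  rw [le_bot_iff.1 h2, card_bot, pow_one] at h3
  exact hp.out.one_lt.ne h3

omit [Finite G] hp in
theorem pow_eq_one (h : SChain σ P p t x X) (i : ℤ) : x i ^ p = 1 := by
  have h3 := h.card (a := i) (b := i) 1 h.pos rfl
  have := congrArg Subtype.val (pow_card_eq_one' (x := (⟨x i, h.mem le_rfl le_rfl⟩ : X i i)))
  rwa [h3, pow_one] at this

theorem mem_left (h : SChain σ P p t x X) {a b : ℤ} (h1 : a ≤ b) (h2 : b - a < t) {M : Subgroup G}
    (hM : X (a + 1) b ≤ M) (hx : x a ∉ M) {y : G} (hy : y ∈ X a b) (hyM : y ∈ M) : y ∈ X (a + 1) b := by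
  by_contra hn
  have := H23.eq_of_lt_of_card_eq_mul_prime hp.out (h.card_left h1 h2) (M := X a b ⊓ M)
    (lt_of_le_of_ne (le_inf (h.mono (by omega) le_rfl (by omega)) hM) fun e => hn (e.ge ⟨hy, hyM⟩))
    inf_le_left
  exact hx (this.ge (h.mem le_rfl h1)).2

theorem mem_right (h : SChain σ P p t x X) {a b : ℤ} (h1 : a ≤ b) (h2 : b - a < t) {M : Subgroup G}
    (hM : X a (b - 1) ≤ M) (hx : x b ∉ M) {y : G} (hy : y ∈ X a b) (hyM : y ∈ M) : y ∈ X a (b - 1) := by
  by_contra hn
  have := H23.eq_of_lt_of_card_eq_mul_prime hp.out (h.card_right h1 h2) (M := X a b ⊓ M)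
    (lt_of_le_of_ne (le_inf (h.mono le_rfl (by omega) (by omega)) hM) fun e => hn (e.ge ⟨hy, hyM⟩))
    inf_le_left
  exact hx (this.ge (h.mem h1 le_rfl)).2

omit [Finite G] hp in
theorem exists_gap (h : SChain σ P p t x X) : ∃ u : ℕ, 0 < u ∧ u ≤ t ∧
    (∀ i j : ℤ, i - j < u → j - i < u → Commute (x i) (x j)) ∧
      (u < t → ∀ i j : ℤ, j = i + u → ¬ Commute (x i) (x j)) := by
  classical
  have hex : ∃ u : ℕ, t ≤ u ∨ ¬ Commute (x 0) (x u) := ⟨t, Or.inl le_rfl⟩
  have h1 := Nat.find_spec hex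
  have h2 := fun m => Nat.find_min hex (m := m)
  have h3 : Nat.find hex ≤ t := Nat.find_min' hex (Or.inl le_rfl)
  generalize Nat.find hex = u at h1 h2 h3
  have h4 : ∀ i j : ℤ, i ≤ j → j - i < u → Commute (x i) (x j) := fun i j a b => by
    have h5 := h2 (j - i).toNat (by omega)
    push Not at h5
    have := h.commute_shift i h5.2
    rwa [zero_add, show ((j - i).toNat : ℤ) + i = j by omega] at this
  refine ⟨u, Nat.pos_of_ne_zero fun e => ?_, h3, fun i j a b => ?_, fun hu i j e hc => ?_⟩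
  · subst e
    have := h.pos
    exact h1.elim (by omega) fun h => h (Commute.refl _)
  · rcases le_total i j with c | c
    · exact h4 i j c b
    · exact (h4 j i c a).symm
  · have := h.commute_shift (-i) hc
    rw [add_neg_cancel, show j + -i = u by omega] at this
    exact (h1.resolve_left (by omega)) this

theorem gap_mem (h : SChain σ P p t x X) {u : ℕ} (hu0 : 0 < u) (hu : u < t)
    (hc : ∀ i j : ℤ, i - j < u → j - i < u → Commute (x i) (x j))
    (hn : ∀ i j : ℤ, j = i + u → ¬ Commute (x i) (x j)) :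
    ⁅x 0, x u⁆ ∈ X (t - u) (2 * u - t) ∧ 2 * t ≤ 3 * u := by
  set z := ⁅x 0, x u⁆ with hz
  have hz1 : z ≠ 1 := fun e => hn 0 u (by ring) (commutatorElement_eq_one_iff_commute.1 e)
  have hz0 : z ∈ X 1 (u - 1) := by simpa using h.comm_mem (a := 0) (b := u) (by omega) (by omega)
  have hl : ∀ k : ℕ, k + u < t → z ∈ X (k + 1) (u - 1) := by
    intro k
    induction k with
    | zero => intro _; simpa using hz0
    | succ k ih =>
      intro hk
      have h1 := ih (by omega)
      rcases lt_or_ge (u - 1 : ℤ) (k + 1) with h2 | h2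
      · rw [h.bot h2] at h1; exact (hz1 h1).elim
      set y := x (k + 1 + u) with hy
      have hw := h.comm_mem (a := 0) (b := k + 1 + u) (by omega) (by omega)
      set w := ⁅x 0, y⁆ with hwd
      have c1 : Commute w (x u) := h.comm_of (by omega) hw fun i a b => hc _ _ (by omega) (by omega)
      have c2 : Commute z w := h.comm_of₂ (by omega) (by omega) h1 hw
        fun i j a b c d => hc _ _ (by omega) (by omega)
      have c3 : Commute (x u) y := hc _ _ (by omega) (by omega)
      have c4 : Commute z y := by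
        have e : y * z * y⁻¹ = z := by
          calc y * z * y⁻¹ = w⁻¹ * x 0 * (y * x u * y⁻¹) * (x 0)⁻¹ * w * (y * x u * y⁻¹)⁻¹ := by
                rw [hz, hwd, commutatorElement_def, commutatorElement_def]; group
            _ = w⁻¹ * x 0 * x u * (x 0)⁻¹ * (w * (x u)⁻¹) := by
                rw [← c3.eq, mul_inv_cancel_right]; group
            _ = w⁻¹ * (z * w) := by rw [c1.inv_right.eq, hz, commutatorElement_def]; group
            _ = z := by rw [c2.eq]; group
        exact (mul_inv_eq_iff_eq_mul.1 e).symm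
      push_cast
      exact h.mem_left h2 (by omega) (M := centralizer {y})
        (h.le_cent (by omega) fun i a b => hc _ _ (by omega) (by omega))
        (fun e => hn _ _ rfl (mem_centralizer_singleton_iff.1 e)) h1 (mem_centralizer_singleton_iff.2 c4)
  have hr : ∀ k : ℕ, k + u < t → z ∈ X 1 (u - 1 - k) := by
    intro k
    induction k with
    | zero => intro _; simpa using hz0
    | succ k ih =>
      intro hk
      have h1 := ih (by omega)
      rcases lt_or_ge (u - 1 - k : ℤ) 1 with h2 | h2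
      · rw [h.bot h2] at h1; exact (hz1 h1).elim
      set y := x (-1 - k) with hy
      have hw := h.comm_mem (a := -1 - k) (b := u) (by omega) (by omega)
      set w := ⁅y, x u⁆ with hwd
      have c1 : Commute w (x 0) := h.comm_of (by omega) hw fun i a b => hc _ _ (by omega) (by omega)
      have c2 : Commute z w := h.comm_of₂ (by omega) (by omega) h1 hw
        fun i j a b c d => hc _ _ (by omega) (by omega)
      have c3 : Commute (x 0) y := hc _ _ (by omega) (by omega)
      have c4 : Commute z y := by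
        have e : y * z * y⁻¹ = z := by
          calc y * z * y⁻¹ = (y * x 0 * y⁻¹) * w * x u * (y * x 0 * y⁻¹)⁻¹ * (x u)⁻¹ * w⁻¹ := by
                rw [hz, hwd, commutatorElement_def, commutatorElement_def]; group
            _ = (x 0 * w) * x u * (x 0)⁻¹ * (x u)⁻¹ * w⁻¹ := by
                rw [← c3.eq, mul_inv_cancel_right]
            _ = (w * z) * w⁻¹ := by rw [← c1.eq, hz, commutatorElement_def]; group
            _ = z := by rw [← c2.eq]; group
        exact (mul_inv_eq_iff_eq_mul.1 e).symm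
      rw [show (u : ℤ) - 1 - (k + 1 : ℕ) = u - 1 - k - 1 by push_cast; ring]
      exact h.mem_right h2 (by omega) (M := centralizer {y})
        (h.le_cent (by omega) fun i a b => hc _ _ (by omega) (by omega))
        (fun e => hn _ _ (by ring) (mem_centralizer_singleton_iff.1 e).symm) h1
        (mem_centralizer_singleton_iff.2 c4)
  have h1 := hl (t - u - 1) (by omega)
  have h2 := hr (t - u - 1) (by omega)
  have h3 := h.inf (by omega) ⟨h2, h1⟩
  rw [show ((t - u - 1 : ℕ) : ℤ) + 1 = t - u by omega,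
    show (u : ℤ) - 1 - (t - u - 1 : ℕ) = 2 * u - t by omega] at h3
  refine ⟨h3, ?_⟩
  by_contra h4
  rw [h.bot (by omega)] at h3
  exact hz1 h3

/-- The parameters of the chain under the centre condition. -/
theorem params (h : SChain σ P p t x X) {n : ℕ}
    (h2 : ∀ z ∈ P, (∀ i : ℕ, i ≤ n → ∀ y ∈ σ ^ (i : ℤ) • P, Commute y z) → z = 1) :
    (t ≤ n ∧ ∀ i j : ℤ, i - j < t → j - i < t → Commute (x i) (x j)) ∨
    ∃ u : ℕ, 0 < u ∧ u < t ∧ (∀ i j : ℤ, i - j < u → j - i < u → Commute (x i) (x j)) ∧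
      (∀ i j : ℤ, j = i + u → ¬ Commute (x i) (x j)) ∧ 2 * t ≤ 3 * u ∧ 2 * u ≤ t + n := by
  obtain ⟨u, hu0, hut, hc, hn⟩ := h.exists_gap
  have key : 2 * u ≤ t + n := by
    by_contra h3
    refine h.ne_one (u - t) (h2 _ ?_ fun i hi y hy => ?_)
    · have := h.top 0
      rw [zpow_zero, one_smul] at this
      rw [this]
      exact h.mem (by omega) (by omega)
    · rw [h.top] at hy
      exact h.comm_of (by omega) hy fun j a b => hc _ _ (by omega) (by omega)
  rcases hut.eq_or_lt with rfl | hut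
  · exact Or.inl ⟨by omega, hc⟩
  · exact Or.inr ⟨u, hu0, hut, hc, hn hut, (h.gap_mem hu0 hut hc (hn hut)).2, key⟩

omit [Finite G] hp in
theorem card_P (h : SChain σ P p t x X) : Nat.card P = p ^ t := by
  have := h.top 0
  rw [zpow_zero, one_smul] at this
  rw [this]
  exact h.card t le_rfl (by ring)

end SChain

end H92
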